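import Cfsg.Agent.H684.BlockTools
import Cfsg.Agent.H590.CoverLies
import Cfsg.Agent.Characters.Clifford

/-!
The principal block of a normal subgroup (helper684).

* `card_normal_le` : `k(B₀(N)) ≤ k(B₀(G)) · |G : N|`.
-/

set_option autoImplicit false

open Cfsg

namespace Cfsg.Agent.H684.CoverCount

open Cfsg.Agent.H684.BlockTools

variable {G : Type*} [Group G] {p : ℕ} {M : Ideal AlgInt}

theorem exists_over [Fintype G] [Fact p.Prime] (hM : IsPModular p M) (N : Subgroup G) [N.Normal]
    [Fintype N] (θ : IrrCharacter N) (hθ : θ ∈ principalBlock M N) :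
    ∃ χ ∈ principalBlock M G, classInner (fun n : N => (χ : G → ℂ) n) (θ : N → ℂ) ≠ 0 := by
  have hMp : M.IsPrime := Blocks.Local.isPrime_of_isPModular hM
  have h0 : triv N ∈ H590.CoverLies.under N (principalBlock M G) := by
    refine ⟨triv G, triv_mem hM, ?_⟩
    have h1 : (fun n : N => ((triv G : IrrCharacter G) : G → ℂ) n) =
        ((triv N : IrrCharacter N) : N → ℂ) := rfl
    rw [h1, Characters.Core.classInner_irr_self (triv N).2]
    exact one_ne_zero
  have h1 := H590.CoverLies.blockOf_subset_under hM isPBlock_principal h0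
  exact h1 hθ

theorem card_normal_le [Finite G] [Fact p.Prime] (hM : IsPModular p M) (N : Subgroup G) [N.Normal] :
    Nat.card (principalBlock M N) ≤ Nat.card (principalBlock M G) * N.index := by
  classical
  let _ : Fintype G := Fintype.ofFinite G
  let _ : Fintype N := Fintype.ofFinite N
  have hfG := finite_principal (M := M) (G := G)
  have hfN := finite_principal (M := M) (G := N)
  let _ : Fintype (principalBlock M G) := Fintype.ofFinite _
  let _ : Fintype (principalBlock M N) := Fintype.ofFinite _
  choose f hf1 hf2 using fun θ : principalBlock M N => exists_over hM N θ.1 θ.2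
  let F : principalBlock M N → principalBlock M G := fun θ => ⟨f θ, hf1 θ⟩
  have hfib : ∀ χ : principalBlock M G,
      (Finset.univ.filter (fun θ => F θ = χ)).card ≤ N.index := by
    intro χ
    rcases (Finset.univ.filter (fun θ => F θ = χ)).eq_empty_or_nonempty with h1 | ⟨θ0, h1⟩
    · rw [h1, Finset.card_empty]; exact Nat.zero_le _
    have hθ0 : F θ0 = χ := (Finset.mem_filter.1 h1).2
    have h2 : ∀ θ : {θ // F θ = χ}, ∃ g : G,
        ((θ.1 : IrrCharacter N) : N → ℂ) =
          ((θ0 : IrrCharacter N) : N → ℂ) ∘ (MulAut.conjNormal g : MulAut N) := by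
      rintro ⟨θ, hθ⟩
      refine Characters.Clifford.exists_conj_of_constituents N (θ := ((χ : IrrCharacter G) : G → ℂ))
        χ.1.2 θ0.1.2 θ.1.2 ?_ ?_
      · have := hf2 θ0
        rw [show f θ0 = χ.1 from congrArg Subtype.val hθ0] at this
        exact this
      · have := hf2 θ
        rw [show f θ = χ.1 from congrArg Subtype.val hθ] at this
        exact this
    choose g hg using h2
    have h3 : Function.Injective (fun θ : {θ // F θ = χ} => (QuotientGroup.mk (g θ) : G ⧸ N)) := by
      intro θ θ' h4
      have h5 : (g θ)⁻¹ * g θ' ∈ N := QuotientGroup.eq.1 h4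
      apply Subtype.ext
      apply Subtype.ext
      apply Subtype.ext
      rw [hg θ, hg θ']
      funext n
      show ((θ0 : IrrCharacter N) : N → ℂ) (MulAut.conjNormal (g θ) n) =
        ((θ0 : IrrCharacter N) : N → ℂ) (MulAut.conjNormal (g θ') n)
      have hmem : g θ' * (g θ)⁻¹ ∈ N := by
        have h6 := (inferInstance : N.Normal).conj_mem _ h5 (g θ)
        have h7 : g θ * ((g θ)⁻¹ * g θ') * (g θ)⁻¹ = g θ' * (g θ)⁻¹ := by group
        rwa [h7] at h6
      have h6 : MulAut.conjNormal (g θ') n =
          (⟨g θ' * (g θ)⁻¹, hmem⟩ : N) * MulAut.conjNormal (g θ) n *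
            (⟨g θ' * (g θ)⁻¹, hmem⟩ : N)⁻¹ := by
        apply Subtype.ext
        simp only [MulAut.conjNormal_apply, Subgroup.coe_mul, Subgroup.coe_inv]
        group
      rw [h6, Blocks.Basic.irr_conj θ0.1.2]
    rw [← Fintype.card_subtype, ← Nat.card_eq_fintype_card]
    exact Nat.card_le_card_of_injective _ h3
  have h1 := Finset.card_le_mul_card_image (f := F)
    (Finset.univ : Finset (principalBlock M N)) N.index (fun χ _ => hfib χ)
  rw [Nat.card_eq_fintype_card, Nat.card_eq_fintype_card, ← Finset.card_univ, mul_comm]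
  exact h1.trans (Nat.mul_le_mul_left _ (Finset.card_le_univ _))

end Cfsg.Agent.H684.CoverCount
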