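import Mathlib
import Cfsg.Prelude.Def_Blocks
import Cfsg.Agent.S0925
import Cfsg.Agent.Characters.Core
import Cfsg.Agent.Blocks.Basic
import Cfsg.Agent.Blocks.PPart
import Cfsg.Agent.Blocks.NormalPSubgroup
import Cfsg.Agent.Blocks.ClassScalar
import Cfsg.Agent.CharactersDeep.ModCongr

/-!
Counting in the principal block (helper684).

* `card_le_of_surjective` : `k(B₀(H)) ≤ k(B₀(G))` for `G →* H` onto;
* `card_le_of_not_conj` : pairwise non-conjugate `p`-elements are at most `k(B₀(G))`;
* `mem_of_quotient` : `K` normal, `U ≤ K` a `p`-group, `G = K N(U)`, the image of `C(U)` in `G/K`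
  a `p`-group: all the characters of `G/K` lie in the principal block;
* `card_irr_quotient_le` : hence `k(G/K) ≤ k(B₀(G))`;
* `mem_of_not_dvd` : if `C(P)` is a `p`-group, `P` Sylow, all characters of `p'`-degree lie in the
  principal block.
-/

set_option autoImplicit false

open Cfsg
open scoped ComplexConjugate

namespace Cfsg.Agent.H684.BlockTools

variable {G : Type*} [Group G] {p : ℕ} {M : Ideal AlgInt}

/-- The trivial character. -/
noncomputable def triv (G : Type*) [Group G] : IrrCharacter G :=
  ⟨fun _ : G => (1 : ℂ), Blocks.Basic.isIrrCharacter_one⟩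

theorem triv_mem (hM : IsPModular p M) : triv G ∈ principalBlock M G := by
  have : M.IsPrime := Blocks.Local.isPrime_of_isPModular hM
  exact Blocks.Basic.sameBlock_refl _

theorem isPBlock_principal : IsPBlock M (principalBlock M G) := ⟨triv G, rfl⟩

theorem mem_principal {χ : IrrCharacter G} :
    χ ∈ principalBlock M G ↔ SameBlock M (fun _ : G => (1 : ℂ)) (χ : G → ℂ) := Iff.rfl

theorem finite_irr [Finite G] : Finite (IrrCharacter G) := Characters.Core.finite_irr

theorem finite_principal [Finite G] : Finite (principalBlock M G) := by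
  have := finite_irr (G := G)
  infer_instance

theorem card_pos [Finite G] (hM : IsPModular p M) : 0 < Nat.card (principalBlock M G) := by
  have := finite_principal (M := M) (G := G)
  have : Nonempty (principalBlock M G) := ⟨⟨triv G, triv_mem hM⟩⟩
  exact Nat.card_pos

/-! ### inflation -/

/-- The inflation of an irreducible character. -/
noncomputable def infl {H : Type*} [Group H] (f : G →* H) (hf : Function.Surjective f)
    (ψ : IrrCharacter H) : IrrCharacter G :=
  ⟨(ψ : H → ℂ) ∘ f, Characters.Core.isIrr_comp f hf ψ.2⟩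

theorem infl_injective {H : Type*} [Group H] (f : G →* H) (hf : Function.Surjective f) :
    Function.Injective (infl f hf) := by
  intro ψ ψ' h
  apply Subtype.ext
  funext x
  obtain ⟨g, rfl⟩ := hf x
  exact congrFun (congrArg Subtype.val h) g

/-- The index of the centralizer of the image divides the index of the centralizer. -/
theorem index_centralizer_map {H : Type*} [Group H] (f : G →* H)
    (hf : Function.Surjective f) (g : G) :
    (Subgroup.centralizer ({f g} : Set H)).index ∣ (Subgroup.centralizer ({g} : Set G)).index := by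
  have h1 : Subgroup.centralizer ({g} : Set G) ≤
      (Subgroup.centralizer ({f g} : Set H)).comap f := by
    intro x hx
    rw [Subgroup.mem_centralizer_singleton_iff] at hx
    rw [Subgroup.mem_comap, Subgroup.mem_centralizer_singleton_iff, ← map_mul, ← map_mul, hx]
  have h2 := Subgroup.relIndex_mul_index h1
  rw [Subgroup.index_comap_of_surjective _ hf] at h2
  exact ⟨_, by rw [← h2, mul_comm]⟩

theorem centralChar_comp {H : Type*} [Group H] (f : G →* H)
    (hf : Function.Surjective f) (g : G) : ∃ m : ℕ, ∀ ψ : H → ℂ,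
      centralChar (ψ ∘ f) g = m * centralChar ψ (f g) := by
  obtain ⟨m, hm⟩ := index_centralizer_map f hf g
  refine ⟨m, fun ψ => ?_⟩
  rw [Blocks.Basic.centralChar_def, Blocks.Basic.centralChar_def, hm, Function.comp_apply,
    Function.comp_apply, map_one]
  push_cast
  ring

theorem infl_mem {H : Type*} [Group H] (hM : IsPModular p M) (f : G →* H)
    (hf : Function.Surjective f) {ψ : IrrCharacter H} (hψ : ψ ∈ principalBlock M H) :
    infl f hf ψ ∈ principalBlock M G := by
  have : M.IsPrime := Blocks.Local.isPrime_of_isPModular hM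
  intro g
  obtain ⟨m, hm⟩ := centralChar_comp f hf g
  have h1 := hm (fun _ : H => (1 : ℂ))
  have h2 := hm (ψ : H → ℂ)
  have h3 : (fun _ : G => (1 : ℂ)) = (fun _ : H => (1 : ℂ)) ∘ f := rfl
  have h4 : ((infl f hf ψ : IrrCharacter G) : G → ℂ) = (ψ : H → ℂ) ∘ f := rfl
  rw [h3, h4, h1, h2, ← mul_sub]
  exact Blocks.Local.memLocalIdeal_mul_left (Blocks.Local.memLocalRing_natCast m) (hψ (f g))

/-- The number of characters in the principal block of a quotient. -/
theorem card_le_of_surjective [Finite G] {H : Type*} [Group H] (hM : IsPModular p M) (f : G →* H)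
    (hf : Function.Surjective f) :
    Nat.card (principalBlock M H) ≤ Nat.card (principalBlock M G) := by
  have := finite_principal (M := M) (G := G)
  refine Nat.card_le_card_of_injective
    (fun ψ : principalBlock M H => (⟨infl f hf ψ.1, infl_mem hM f hf ψ.2⟩ : principalBlock M G))
    (fun ψ ψ' h => Subtype.ext (infl_injective f hf (congrArg Subtype.val h)))

/-! ### `p`-elements -/

theorem isPPart_self [Fact p.Prime] {x : G} (hx : ∃ k : ℕ, orderOf x = p ^ k) : IsPPart p x x :=
  Blocks.PPart.isPPart_of_isPGroup hx

/-- Block orthogonality in the principal block. -/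
theorem orth [Finite G] [Fact p.Prime] (hM : IsPModular p M) {x y : G}
    (hx : ∃ k : ℕ, orderOf x = p ^ k) (hy : ∃ k : ℕ, orderOf y = p ^ k) (hxy : ¬ IsConj x y) :
    ∑ᶠ χ ∈ principalBlock M G, (χ : G → ℂ) x * conj ((χ : G → ℂ) y) = 0 := by
  have h1 := (S0925.result p M hM).2 x y x y (isPPart_self hx) (isPPart_self hy) hxy
    (principalBlock M G) isPBlock_principal
  rw [← h1]
  refine finsum_mem_congr rfl fun χ _ => ?_
  rw [Blocks.Orthogonality.irr_apply_inv χ.2]

/-- Pairwise non-conjugate `p`-elements. -/
theorem card_le_of_not_conj [Finite G] [Fact p.Prime] (hM : IsPModular p M) {ι : Type*} [Finite ι]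
    (x : ι → G) (hx : ∀ i, ∃ k : ℕ, orderOf (x i) = p ^ k)
    (hne : ∀ i j, i ≠ j → ¬ IsConj (x i) (x j)) :
    Nat.card ι ≤ Nat.card (principalBlock M G) := by
  classical
  have hfin := finite_principal (M := M) (G := G)
  let _ : Fintype (principalBlock M G) := Fintype.ofFinite _
  let _ : Fintype ι := Fintype.ofFinite _
  let v : ι → EuclideanSpace ℂ (principalBlock M G) :=
    fun i => WithLp.toLp 2 (fun χ => ((χ : IrrCharacter G) : G → ℂ) (x i))
  have hinner : ∀ i j, inner ℂ (v i) (v j) =
      ∑ χ : principalBlock M G, ((χ : IrrCharacter G) : G → ℂ) (x j) *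
        conj (((χ : IrrCharacter G) : G → ℂ) (x i)) := by
    intro i j
    rw [PiLp.inner_apply]
    refine Finset.sum_congr rfl fun χ _ => ?_
    simp only [v, RCLike.inner_apply]
  have hv : ∀ i j, i ≠ j → inner ℂ (v i) (v j) = 0 := by
    intro i j hij
    rw [hinner]
    have h1 := orth hM (hx j) (hx i) (hne j i (Ne.symm hij))
    rw [← finsum_set_coe_eq_finsum_mem, finsum_eq_sum_of_fintype] at h1
    exact h1
  have hv0 : ∀ i, v i ≠ 0 := by
    intro i h
    have h1 : (v i) ⟨triv G, triv_mem hM⟩ = 0 := by rw [h]; rfl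
    exact one_ne_zero h1
  have hli : LinearIndependent ℂ v := linearIndependent_of_ne_zero_of_inner_eq_zero hv0 hv
  have h1 := hli.fintype_card_le_finrank
  rw [finrank_euclideanSpace] at h1
  rw [Nat.card_eq_fintype_card, Nat.card_eq_fintype_card]
  exact h1

end Cfsg.Agent.H684.BlockTools
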