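import Mathlib
import Cfsg.Agent.SmallSimple.SelfCentPrime

/-!
Landau's theorem: the order of a finite group is bounded in terms of the number of its conjugacy
classes (helper684).

* `exists_bound_multiset` : positive integers with a given number of terms and a given sum of
  reciprocals are bounded;
* `landau` : Landau's theorem.
-/

set_option autoImplicit false

namespace Cfsg.Agent.H684.Landau

/-- Positive integers whose reciprocals have a given sum, with a given number of terms, are
bounded. -/
theorem exists_bound_multiset (n : ℕ) : ∀ D : ℕ, ∃ B : ℕ, ∀ s : Multiset ℕ, s.card = n →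
    (∀ x ∈ s, 0 < x) → ∀ a b : ℕ, 0 < b → b ≤ D →
    (s.map (fun x : ℕ => (1 / x : ℚ))).sum = a / b → ∀ x ∈ s, x ≤ B := by
  induction n with
  | zero =>
    intro D
    refine ⟨0, fun s hs _ _ _ _ _ _ x hx => ?_⟩
    rw [Multiset.card_eq_zero] at hs
    subst hs
    exact absurd hx (Multiset.notMem_zero x)
  | succ n ih =>
    intro D
    obtain ⟨B, hB⟩ := ih (D * ((n + 1) * D))
    refine ⟨max ((n + 1) * D) B, fun s hs hpos a b hb hbD hsum x hx => ?_⟩
    -- a minimal element
    obtain ⟨m, hm, hmin⟩ : ∃ m ∈ s, ∀ y ∈ s, m ≤ y := by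
      have h1 : ∃ m, m ∈ s := ⟨x, hx⟩
      classical
      exact ⟨Nat.find h1, Nat.find_spec h1, fun y hy => Nat.find_min' h1 hy⟩
    obtain ⟨t, rfl⟩ := Multiset.exists_cons_of_mem hm
    rw [Multiset.card_cons] at hs
    have hm0 : 0 < m := hpos m (Multiset.mem_cons_self m t)
    have hmQ : (0 : ℚ) < m := by exact_mod_cast hm0
    have hbQ : (0 : ℚ) < b := by exact_mod_cast hb
    rw [Multiset.map_cons, Multiset.sum_cons] at hsum
    have htpos : (0 : ℚ) ≤ (t.map (fun x : ℕ => (1 / x : ℚ))).sum := by
      apply Multiset.sum_nonneg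
      intro y hy
      obtain ⟨z, -, rfl⟩ := Multiset.mem_map.1 hy
      positivity
    have htle : (t.map (fun x : ℕ => (1 / x : ℚ))).sum ≤ n * (1 / m : ℚ) := by
      have h1 : (t.map (fun x : ℕ => (1 / x : ℚ))).sum ≤
          (t.map (fun x : ℕ => (1 / x : ℚ))).card • (1 / m : ℚ) := by
        apply Multiset.sum_le_card_nsmul
        intro y hy
        obtain ⟨z, hz, rfl⟩ := Multiset.mem_map.1 hy
        have h2 : m ≤ z := hmin z (Multiset.mem_cons_of_mem hz)
        have h3 : (m : ℚ) ≤ z := by exact_mod_cast h2
        exact one_div_le_one_div_of_le hmQ h3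
      rw [Multiset.card_map, nsmul_eq_mul] at h1
      have h4 : t.card = n := by omega
      rwa [h4] at h1
    -- `a` is positive
    have ha : 0 < a := by
      rcases Nat.eq_zero_or_pos a with rfl | h
      · have h1 : (0 : ℚ) < 1 / m := by positivity
        rw [Nat.cast_zero, zero_div] at hsum
        linarith
      · exact h
    have haQ : (1 : ℚ) ≤ a := by exact_mod_cast ha
    have hmD : m ≤ (n + 1) * D := by
      have h1 : (a : ℚ) / b ≤ (n + 1) * (1 / m : ℚ) := by
        rw [← hsum]
        have : ((n : ℚ) + 1) * (1 / m : ℚ) = 1 / m + n * (1 / m : ℚ) := by ring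
        rw [this]
        linarith
      have h2 : (a : ℚ) * m ≤ (n + 1) * b := by
        rw [div_le_iff₀ hbQ] at h1
        have h3 : ((n : ℚ) + 1) * (1 / m : ℚ) * b * m = (n + 1) * b := by
          field_simp
        nlinarith [mul_le_mul_of_nonneg_right h1 hmQ.le]
      have h4 : a * m ≤ (n + 1) * b := by exact_mod_cast h2
      calc m ≤ a * m := Nat.le_mul_of_pos_left m ha
        _ ≤ (n + 1) * b := h4
        _ ≤ (n + 1) * D := Nat.mul_le_mul_left _ hbD
    rcases Multiset.mem_cons.1 hx with rfl | hxt
    · exact le_max_of_le_left hmD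
    · refine le_max_of_le_right ?_
      have hle : (1 : ℚ) / m ≤ a / b := by rw [← hsum]; linarith
      have hle2 : b ≤ a * m := by
        rw [div_le_div_iff₀ hmQ hbQ, one_mul] at hle
        exact_mod_cast hle
      refine hB t (by omega) (fun y hy => hpos y (Multiset.mem_cons_of_mem hy)) (a * m - b)
        (b * m) (by positivity) ?_ ?_ x hxt
      · exact Nat.mul_le_mul hbD hmD
      · have h1 : (t.map (fun x : ℕ => (1 / x : ℚ))).sum = a / b - 1 / m := by
          rw [← hsum]; ring
        rw [h1]
        push_cast [Nat.cast_sub hle2]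
        field_simp

/-- **Landau's theorem.** -/
theorem landau (k : ℕ) : ∃ L : ℕ, ∀ (G : Type*) [Group G] [Finite G],
    Nat.card (ConjClasses G) ≤ k → Nat.card G ≤ L := by
  classical
  choose B hB using fun n : ℕ => exists_bound_multiset n 1
  refine ⟨(Finset.range (k + 1)).sup B, fun G _ _ hk => ?_⟩
  have hfin : Finite (ConjClasses G) := inferInstance
  let _ : Fintype (ConjClasses G) := Fintype.ofFinite _
  let _ : Fintype G := Fintype.ofFinite G
  let c : ConjClasses G → ℕ := fun C => Nat.card (Subgroup.centralizer ({C.out} : Set G))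
  have hcard : (Nat.card G : ℚ) ≠ 0 := by exact_mod_cast Nat.card_pos.ne'
  have hc : ∀ C : ConjClasses G, Nat.card C.carrier * c C = Nat.card G := by
    intro C
    have h2 : ConjClasses.mk C.out = C := Quotient.out_eq C
    have h1 := SmallSimple.SelfCentPrime.card_carrier_mul_card_centralizer C.out
    rwa [h2] at h1
  have hcpos : ∀ C, 0 < c C := fun C => Nat.card_pos
  have hsum : ∑ C : ConjClasses G, Nat.card C.carrier = Nat.card G := by
    have h1 := sum_conjClasses_card_eq_card G
    rw [Nat.card_eq_fintype_card, ← h1]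
    refine Finset.sum_congr rfl fun C _ => ?_
    rw [Nat.card_eq_fintype_card, Set.toFinset_card]
  have hrec : ∑ C : ConjClasses G, (1 / c C : ℚ) = 1 := by
    have h1 : ∀ C : ConjClasses G, (1 / c C : ℚ) = Nat.card C.carrier / Nat.card G := by
      intro C
      have h2 : (Nat.card C.carrier * c C : ℚ) = Nat.card G := by exact_mod_cast hc C
      have h3 : (c C : ℚ) ≠ 0 := by exact_mod_cast (hcpos C).ne'
      rw [div_eq_div_iff h3 hcard, one_mul, h2]
    rw [Finset.sum_congr rfl fun C _ => h1 C, ← Finset.sum_div]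
    rw [div_eq_one_iff_eq hcard]
    exact_mod_cast hsum
  -- the multiset of centralizer orders
  let s : Multiset ℕ := (Finset.univ : Finset (ConjClasses G)).val.map c
  have hs : s.card = Nat.card (ConjClasses G) := by
    rw [Multiset.card_map, Nat.card_eq_fintype_card]
    rfl
  have h1 : Nat.card G ∈ s := by
    refine Multiset.mem_map.2 ⟨ConjClasses.mk 1, Finset.mem_univ _, ?_⟩
    have h2 := hc (ConjClasses.mk (1 : G))
    have h3 : Nat.card (ConjClasses.mk (1 : G)).carrier = 1 := by
      rw [Nat.card_eq_one_iff_unique]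
      refine ⟨⟨fun x y => ?_⟩, ⟨⟨1, ConjClasses.mem_carrier_mk⟩⟩⟩
      have hx : (x : G) = 1 := by
        have := ConjClasses.mem_carrier_iff_mk_eq.1 x.2
        exact isConj_one_right.1 (ConjClasses.mk_eq_mk_iff_isConj.1 this).symm
      have hy : (y : G) = 1 := by
        have := ConjClasses.mem_carrier_iff_mk_eq.1 y.2
        exact isConj_one_right.1 (ConjClasses.mk_eq_mk_iff_isConj.1 this).symm
      exact Subtype.ext (hx.trans hy.symm)
    rw [h3, one_mul] at h2
    exact h2
  have h2 := hB (Nat.card (ConjClasses G)) s hs (fun x hx => by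
    obtain ⟨C, -, rfl⟩ := Multiset.mem_map.1 hx
    exact hcpos C) 1 1 one_pos le_rfl (by
      rw [Multiset.map_map]
      show ∑ C : ConjClasses G, (1 / c C : ℚ) = _
      rw [hrec]
      norm_num) _ h1
  refine h2.trans (Finset.le_sup (f := B) (Finset.mem_range.2 (by omega)))

end Cfsg.Agent.H684.Landau
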