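import Cfsg.Agent.H684.Principal
import Cfsg.Agent.H684.Landau
import Cfsg.Agent.Blocks.Knorr
import Cfsg.Agent.S0894

/-!
Counting characters through the principal series (helper684).

* `card_classes_le` : `k(B/U) ≤ D · #{χ : p ∤ χ(1)}`, `D` the number of `(U, B)`-double cosets,
  `U` a Sylow subgroup normal in `B`;
* `card_group_le` : `|G| ≤ D |U| |B|`;
* `card_irr_le` : `k(G) ≤ k(B₀) + D |B/U|` if all characters outside the principal block have
  defect zero;
* `bounded` : `|B/U|` is bounded by `D` and `k(B₀)`; `bounded'` : the same for `|G|`.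
-/

set_option autoImplicit false

open Cfsg
open scoped ComplexConjugate

namespace Cfsg.Agent.H684.PrincipalCount

open Cfsg.Agent.H684.BlockTools Cfsg.Agent.H684.BlockQuot Cfsg.Agent.H684.Principal

variable {G : Type*} [Group G] {p : ℕ} {M : Ideal AlgInt} {U B : Subgroup G}

theorem not_dvd_card_quot [Finite G] (hUB : U ≤ B) (hUi : ¬ p ∣ U.index) :
    ¬ p ∣ Nat.card (B ⧸ U.subgroupOf B) := by
  intro h5
  apply hUi
  have h6 : U.relIndex B ∣ U.index := Subgroup.relIndex_dvd_index_of_le hUB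
  exact dvd_trans h5 h6

/-- The characters of `B/U`. -/
theorem card_classes_le [Finite G] [Fact p.Prime] [(U.subgroupOf B).Normal]
    (hUB : U ≤ B) (hU : IsPGroup p U) (hUi : ¬ p ∣ U.index) {D k : ℕ}
    (hD : Nat.card (MulAction.orbitRel.Quotient U (G ⧸ B)) ≤ D)
    (hk : Nat.card {χ : IrrCharacter G // ¬ p ∣ charDegree (χ : G → ℂ)} ≤ k) :
    Nat.card (ConjClasses (B ⧸ U.subgroupOf B)) ≤ D * k := by
  classical
  have hp : p.Prime := Fact.out
  have hfG := finite_irr (G := G)
  have hfQ := finite_irr (G := B ⧸ U.subgroupOf B)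
  let _ : Fintype (IrrCharacter G) := Fintype.ofFinite _
  let _ : Fintype (IrrCharacter (B ⧸ U.subgroupOf B)) := Fintype.ofFinite _
  let _ : Fintype B := Fintype.ofFinite _
  choose a ha using fun (χ : IrrCharacter G) (l : IrrCharacter (B ⧸ U.subgroupOf B)) =>
    mult_isNat (U := U) (B := B) χ l
  set d : IrrCharacter (B ⧸ U.subgroupOf B) → ℕ := fun l => charDegree l.1 with hd
  have hd1 : ∀ l : IrrCharacter (B ⧸ U.subgroupOf B), l.1 1 = d l := fun l =>
    Blocks.Basic.irr_one_eq_charDegree l.2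
  have hd0 : ∀ l, 0 < d l := fun l => Blocks.Basic.charDegree_pos l.2
  have hG1 : ∀ χ : IrrCharacter G, χ.1 1 = charDegree (χ : G → ℂ) := fun χ =>
    Blocks.Basic.irr_one_eq_charDegree χ.2
  have e1 : ∀ l, ∑ χ : IrrCharacter G, a χ l * charDegree (χ : G → ℂ) = B.index * d l := by
    intro l
    have h1 := sum_mult_deg (U := U) (B := B) l
    simp only [ha, hG1, hd1] at h1
    exact_mod_cast h1
  have e2 : ∀ l, ∑ χ : IrrCharacter G, a χ l *
      (∑ l' : IrrCharacter (B ⧸ U.subgroupOf B), a χ l' * d l') ≤ D * d l := by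
    intro l
    have h1 := sum_mult_mult (p := p) hUB hU hUi l
    simp only [ha, hd1] at h1
    have h2 : ∑ χ : IrrCharacter G, a χ l *
      (∑ l' : IrrCharacter (B ⧸ U.subgroupOf B), a χ l' * d l') =
        Nat.card (MulAction.orbitRel.Quotient U (G ⧸ B)) * d l := by exact_mod_cast h1
    rw [h2]
    exact Nat.mul_le_mul_right _ hD
  have hdp : ∀ l, ¬ p ∣ d l := by
    intro l h1
    exact not_dvd_card_quot hUB hUi (dvd_trans h1 (Blocks.Knorr.charDegree_dvd l.2))
  have hBp : ¬ p ∣ B.index := by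
    intro h1
    apply hUi
    exact dvd_trans h1 (Subgroup.index_dvd_of_le hUB)
  have hex : ∀ l, ∃ χ : IrrCharacter G, a χ l ≠ 0 ∧ ¬ p ∣ charDegree (χ : G → ℂ) := by
    intro l
    by_contra hcon
    push Not at hcon
    have h1 : p ∣ ∑ χ : IrrCharacter G, a χ l * charDegree (χ : G → ℂ) := by
      refine Finset.dvd_sum fun χ _ => ?_
      by_cases h2 : a χ l = 0
      · rw [h2, zero_mul]; exact dvd_zero p
      · exact dvd_mul_of_dvd_right (hcon χ h2) _
    rw [e1, hp.dvd_mul] at h1
    exact h1.elim hBp (hdp l)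
  choose f hf1 hf2 using hex
  -- the fibres
  have hfib : ∀ χ : IrrCharacter G, (Finset.univ.filter (fun l => f l = χ)).card ≤ D := by
    intro χ
    rcases (Finset.univ.filter (fun l => f l = χ)).eq_empty_or_nonempty with h1 | h1
    · rw [h1, Finset.card_empty]; exact Nat.zero_le _
    obtain ⟨l0, hl0, hmin⟩ := Finset.exists_min_image _ d h1
    have hl0' : f l0 = χ := (Finset.mem_filter.1 hl0).2
    have h2 : (Finset.univ.filter (fun l => f l = χ)).card * d l0 ≤
        ∑ l' : IrrCharacter (B ⧸ U.subgroupOf B), a χ l' * d l' := by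
      calc (Finset.univ.filter (fun l => f l = χ)).card * d l0
          ≤ ∑ l' ∈ Finset.univ.filter (fun l => f l = χ), a χ l' * d l' := by
            rw [← smul_eq_mul]
            refine Finset.card_nsmul_le_sum _ _ _ fun l' hl' => ?_
            have h3 : a χ l' ≠ 0 := by
              have := hf1 l'
              rwa [(Finset.mem_filter.1 hl').2] at this
            calc d l0 ≤ d l' := hmin l' hl'
              _ = 1 * d l' := (one_mul _).symm
              _ ≤ a χ l' * d l' := Nat.mul_le_mul_right _ (Nat.one_le_iff_ne_zero.2 h3)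
        _ ≤ ∑ l' : IrrCharacter (B ⧸ U.subgroupOf B), a χ l' * d l' :=
            Finset.sum_le_sum_of_subset (Finset.subset_univ _)
    have h3 : a χ l0 ≠ 0 := by
      have := hf1 l0
      rwa [hl0'] at this
    have h4 : ∑ l' : IrrCharacter (B ⧸ U.subgroupOf B), a χ l' * d l' ≤ D * d l0 := by
      calc ∑ l' : IrrCharacter (B ⧸ U.subgroupOf B), a χ l' * d l'
          ≤ a χ l0 * ∑ l' : IrrCharacter (B ⧸ U.subgroupOf B), a χ l' * d l' :=
            Nat.le_mul_of_pos_left _ (Nat.pos_of_ne_zero h3)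
        _ ≤ ∑ χ : IrrCharacter G, a χ l0 *
            (∑ l' : IrrCharacter (B ⧸ U.subgroupOf B), a χ l' * d l') :=
            Finset.single_le_sum (f := fun χ : IrrCharacter G => a χ l0 *
              (∑ l' : IrrCharacter (B ⧸ U.subgroupOf B), a χ l' * d l'))
              (fun _ _ => Nat.zero_le _) (Finset.mem_univ χ)
        _ ≤ D * d l0 := e2 l0
    exact Nat.le_of_mul_le_mul_right (h2.trans h4) (hd0 l0)
  have h1 := Finset.card_le_mul_card_image (f := f)
    (Finset.univ : Finset (IrrCharacter (B ⧸ U.subgroupOf B))) D (fun χ _ => hfib χ)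
  rw [← Characters.Core.card_irr, Nat.card_eq_fintype_card, ← Finset.card_univ]
  refine h1.trans (Nat.mul_le_mul_left _ (le_trans ?_ hk))
  rw [Nat.card_eq_fintype_card, Fintype.card_subtype]
  refine Finset.card_le_card fun χ hχ => ?_
  obtain ⟨l, -, rfl⟩ := Finset.mem_image.1 hχ
  exact Finset.mem_filter.2 ⟨Finset.mem_univ _, hf2 l⟩

/-- `|X| ≤ D |H|`, `D` the number of orbits of `H`. -/
theorem card_le_orbits {H X : Type*} [Group H] [Finite H] [MulAction H X] [Finite X] {D : ℕ}
    (hD : Nat.card (MulAction.orbitRel.Quotient H X) ≤ D) : Nat.card X ≤ D * Nat.card H := by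
  classical
  let _ : Fintype X := Fintype.ofFinite _
  let _ : Fintype (MulAction.orbitRel.Quotient H X) := Fintype.ofFinite _
  rw [Nat.card_congr (MulAction.selfEquivSigmaOrbits H X), Nat.card_sigma]
  calc ∑ ω : MulAction.orbitRel.Quotient H X, Nat.card (MulAction.orbit H ω.out)
      ≤ ∑ _ω : MulAction.orbitRel.Quotient H X, Nat.card H := by
        refine Finset.sum_le_sum fun ω _ => ?_
        exact Nat.card_le_card_of_surjective (fun h : H => (⟨h • ω.out, h, rfl⟩ :
          MulAction.orbit H ω.out)) (by rintro ⟨x, h, hx⟩; exact ⟨h, Subtype.ext hx⟩)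
    _ = Nat.card (MulAction.orbitRel.Quotient H X) * Nat.card H := by
        rw [Finset.sum_const, smul_eq_mul, Finset.card_univ,
          ← Nat.card_eq_fintype_card (α := MulAction.orbitRel.Quotient H X)]
    _ ≤ D * Nat.card H := Nat.mul_le_mul_right _ hD

theorem card_group_le [Finite G] {D : ℕ}
    (hD : Nat.card (MulAction.orbitRel.Quotient U (G ⧸ B)) ≤ D) :
    Nat.card G ≤ D * Nat.card U * Nat.card B := by
  have h1 := card_le_orbits hD
  rw [← Subgroup.card_mul_index B, mul_comm]
  exact Nat.mul_le_mul_right _ h1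

theorem card_irr_le [Finite G] [Fact p.Prime] (hUB : U ≤ B) {D : ℕ}
    (hD : Nat.card (MulAction.orbitRel.Quotient U (G ⧸ B)) ≤ D)
    (hA : ∀ χ : IrrCharacter G, χ ∈ principalBlock M G ∨ Nat.card U ∣ charDegree (χ : G → ℂ)) :
    Nat.card (ConjClasses G) ≤ Nat.card (principalBlock M G) + D * Nat.card (B ⧸ U.subgroupOf B) := by
  classical
  have hfG := finite_irr (G := G)
  let _ : Fintype (IrrCharacter G) := Fintype.ofFinite _
  set Z : Finset (IrrCharacter G) :=
    Finset.univ.filter (fun χ => Nat.card U ∣ charDegree (χ : G → ℂ)) with hZ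
  set P : Finset (IrrCharacter G) := Finset.univ.filter (fun χ => χ ∈ principalBlock M G) with hP
  have h1 : (Finset.univ : Finset (IrrCharacter G)) ⊆ P ∪ Z := by
    intro χ _
    rw [Finset.mem_union, hP, hZ, Finset.mem_filter, Finset.mem_filter]
    rcases hA χ with h | h
    · exact Or.inl ⟨Finset.mem_univ _, h⟩
    · exact Or.inr ⟨Finset.mem_univ _, h⟩
  have h2 : Nat.card (ConjClasses G) ≤ P.card + Z.card := by
    rw [← Characters.Core.card_irr, Nat.card_eq_fintype_card, ← Finset.card_univ]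
    exact (Finset.card_le_card h1).trans (Finset.card_union_le _ _)
  have h3 : P.card = Nat.card (principalBlock M G) := by
    rw [hP, ← Fintype.card_subtype, ← Nat.card_eq_fintype_card]
  have hsum : ∑ χ : IrrCharacter G, (charDegree (χ : G → ℂ)) ^ 2 = Nat.card G := by
    have h4 := S0894.sum_sq_degrees (G := G)
    simp only [Blocks.Basic.irr_one_eq_charDegree (Subtype.prop _)] at h4
    exact_mod_cast h4
  have hU0 : 0 < Nat.card U := Nat.card_pos
  have h4 : Z.card * (Nat.card U) ^ 2 ≤ Nat.card G := by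
    rw [← hsum]
    calc Z.card * (Nat.card U) ^ 2 ≤ ∑ χ ∈ Z, (charDegree (χ : G → ℂ)) ^ 2 := by
          rw [← smul_eq_mul]
          refine Finset.card_nsmul_le_sum _ _ _ fun χ hχ => ?_
          have h5 : Nat.card U ∣ charDegree (χ : G → ℂ) := (Finset.mem_filter.1 hχ).2
          exact Nat.pow_le_pow_left (Nat.le_of_dvd (Blocks.Basic.charDegree_pos χ.2) h5) 2
      _ ≤ _ := Finset.sum_le_sum_of_subset (Finset.subset_univ _)
  have h5 := card_group_le hD
  have h6 : Nat.card B = Nat.card U * Nat.card (B ⧸ U.subgroupOf B) := by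
    have h7 := Subgroup.card_mul_index (U.subgroupOf B)
    rw [Nat.card_congr (Subgroup.subgroupOfEquivOfLe hUB).toEquiv] at h7
    exact h7.symm
  have h7 : Z.card ≤ D * Nat.card (B ⧸ U.subgroupOf B) := by
    have h8 : Z.card * (Nat.card U) ^ 2 ≤ D * Nat.card (B ⧸ U.subgroupOf B) * (Nat.card U) ^ 2 := by
      refine h4.trans (h5.trans (le_of_eq ?_))
      rw [h6]; ring
    exact Nat.le_of_mul_le_mul_right h8 (pow_pos hU0 2)
  omega

/-- **`|B/U|` is bounded.** -/
theorem bounded (k D : ℕ) : ∃ N : ℕ, ∀ (G : Type*) [Group G] [Finite G] (p : ℕ) [Fact p.Prime]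
    (M : Ideal AlgInt) (_ : IsPModular p M) (U B : Subgroup G) [(U.subgroupOf B).Normal]
    (_ : U ≤ B) (_ : IsPGroup p U) (_ : ¬ p ∣ U.index)
    (_ : IsPGroup p (Subgroup.centralizer (U : Set G)))
    (_ : Nat.card (MulAction.orbitRel.Quotient U (G ⧸ B)) ≤ D)
    (_ : Nat.card (principalBlock M G) ≤ k), Nat.card (B ⧸ U.subgroupOf B) ≤ N := by
  obtain ⟨N, hN⟩ := Landau.landau (D * k)
  refine ⟨N, ?_⟩
  intro G _ _ p _ M hM U B _ hUB hU hUi hC hD hk
  apply hN
  refine card_classes_le hUB hU hUi hD (le_trans ?_ hk)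
  have := finite_principal (M := M) (G := G)
  exact Nat.card_le_card_of_injective
    (fun χ : {χ : IrrCharacter G // ¬ p ∣ charDegree (χ : G → ℂ)} =>
      (⟨χ.1, mem_of_not_dvd hM hU hC χ.1 χ.2⟩ : principalBlock M G))
    (fun χ χ' h => Subtype.ext (congrArg (fun x : principalBlock M G => x.1) h))

/-- **`|G|` is bounded.** -/
theorem bounded' (k D : ℕ) : ∃ N : ℕ, ∀ (G : Type*) [Group G] [Finite G] (p : ℕ) [Fact p.Prime]
    (M : Ideal AlgInt) (_ : IsPModular p M) (U B : Subgroup G) [(U.subgroupOf B).Normal]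
    (_ : U ≤ B) (_ : IsPGroup p U) (_ : ¬ p ∣ U.index)
    (_ : IsPGroup p (Subgroup.centralizer (U : Set G)))
    (_ : Nat.card (MulAction.orbitRel.Quotient U (G ⧸ B)) ≤ D)
    (_ : ∀ χ : IrrCharacter G, χ ∈ principalBlock M G ∨ Nat.card U ∣ charDegree (χ : G → ℂ))
    (_ : Nat.card (principalBlock M G) ≤ k), Nat.card G ≤ N := by
  obtain ⟨N, hN⟩ := bounded k D
  obtain ⟨N', hN'⟩ := Landau.landau (k + D * N)
  refine ⟨N', ?_⟩
  intro G _ _ p _ M hM U B _ hUB hU hUi hC hD hA hk
  apply hN'
  have h1 := hN G p M hM U B hUB hU hUi hC hD hk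
  refine (card_irr_le (p := p) hUB hD hA).trans ?_
  exact Nat.add_le_add hk (Nat.mul_le_mul_left _ h1)

end Cfsg.Agent.H684.PrincipalCount
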