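import Mathlib

/-!
Automorphisms of direct powers of a simple group (helper684).

* `Rigid p U` : the automorphisms of order prime to `p` centralizing `U` are trivial;
* `rigid_pi` : the same for `U ^ n` in `S ^ n`, `S` simple, `1 ≠ U`.
-/

set_option autoImplicit false

namespace Cfsg.Agent.H684.ProdRigid

/-- the automorphisms of order prime to `p` centralizing `U` are trivial -/
def Rigid {S : Type*} [Group S] (p : ℕ) (U : Subgroup S) : Prop :=
  ∀ α : MulAut S, (∀ u ∈ U, α u = u) → ∀ k : ℕ, p.Coprime k → α ^ k = 1 → α = 1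

theorem Rigid.mono {S : Type*} [Group S] {p : ℕ} {U U' : Subgroup S} (h : Rigid p U) (hU : U ≤ U') :
    Rigid p U' := fun α hα k hk hαk => h α (fun u hu => hα u (hU hu)) k hk hαk

theorem Rigid.map {S S' : Type*} [Group S] [Group S'] {p : ℕ} {U : Subgroup S} (h : Rigid p U)
    (e : S ≃* S') : Rigid p (U.map e.toMonoidHom) := by
  intro α hα k hk hαk
  let β : MulAut S := (e.trans α).trans e.symm
  have hβ : ∀ s, e (β s) = α (e s) := fun s => e.apply_symm_apply _
  have hβj : ∀ (j : ℕ) (s : S), e ((β ^ j) s) = (α ^ j) (e s) := by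
    intro j
    induction j with
    | zero => intro s; rw [pow_zero, pow_zero]; rfl
    | succ j ih =>
      intro s
      rw [pow_succ', pow_succ', MulAut.mul_apply, MulAut.mul_apply, hβ, ih]
  have h1 : β = 1 := by
    refine h β (fun u hu => ?_) k hk ?_
    · apply e.injective
      rw [hβ]
      exact hα _ ⟨u, hu, rfl⟩
    · ext s
      apply e.injective
      rw [hβj, hαk]
      rfl
  ext s
  obtain ⟨s, rfl⟩ := e.surjective s
  rw [← hβ, h1]
  rfl

variable {S : Type*} [Group S] {ι : Type*} [DecidableEq ι]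

/-- If `α` fixes a nontrivial element of the `i`-th factor it preserves the factor. -/
theorem apply_single [IsSimpleGroup S] (α : MulAut (ι → S)) {i : ι} {u : S} (hu : u ≠ 1)
    (hα : α (Pi.mulSingle i u) = Pi.mulSingle i u) (s : S) :
    α (Pi.mulSingle i s) = Pi.mulSingle i (α (Pi.mulSingle i s) i) := by
  -- the elements of `S` for which this holds form a normal subgroup
  let f : S →* (ι → S) := MonoidHom.mulSingle (fun _ : ι => S) i
  have hf : ∀ s, f s = Pi.mulSingle i s := fun _ => rfl
  -- `N` : the elements of `S` which are mapped to the `i`-th factor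
  let K : Subgroup (ι → S) := f.range
  have hK : K.Normal := by
    refine ⟨?_⟩
    rintro _ ⟨a, rfl⟩ v
    refine ⟨v i * a * (v i)⁻¹, ?_⟩
    funext j
    rw [hf, hf]
    by_cases hj : j = i
    · subst hj
      simp
    · simp [Pi.mulSingle_eq_of_ne hj]
  let N : Subgroup S := K.comap (α.toMonoidHom.comp f)
  have hN : N.Normal := by
    refine ⟨?_⟩
    intro a ha b
    have h1 : α (f a) ∈ K := ha
    show α (f (b * a * b⁻¹)) ∈ K
    rw [map_mul, map_mul, map_mul, map_mul, map_inv, map_inv]
    exact hK.conj_mem _ h1 _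
  have hu' : u ∈ N := by
    show α (f u) ∈ K
    rw [hf, hα]
    exact ⟨u, rfl⟩
  have hN1 : N = ⊤ := by
    rcases hN.eq_bot_or_eq_top with h1 | h1
    · exfalso
      rw [h1, Subgroup.mem_bot] at hu'
      exact hu hu'
    · exact h1
  have hs : s ∈ N := by rw [hN1]; trivial
  obtain ⟨a, ha⟩ : α (f s) ∈ K := hs
  rw [hf, hf] at ha
  rw [← ha, Pi.mulSingle_eq_same]

theorem rigid_pi [Finite ι] [IsSimpleGroup S] (hc : ∃ a b : S, a * b ≠ b * a) {p : ℕ} {U : Subgroup S} (hU : U ≠ ⊥)
    (h : Rigid p U) : Rigid p (Subgroup.pi Set.univ (fun _ : ι => U)) := by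
  intro α hα k hk hαk
  obtain ⟨u, hu, hu1⟩ : ∃ u : S, u ∈ U ∧ u ≠ 1 := by
    obtain ⟨u, hu⟩ := (Subgroup.ne_bot_iff_exists_ne_one).1 hU
    exact ⟨u.1, u.2, fun h => hu (Subtype.ext h)⟩
  have hsing : ∀ (i : ι) (v : S), v ∈ U → α (Pi.mulSingle i v) = Pi.mulSingle i v := by
    intro i v hv
    apply hα
    rw [Subgroup.mem_pi]
    intro j _
    by_cases hj : j = i
    · subst hj; rw [Pi.mulSingle_eq_same]; exact hv
    · rw [Pi.mulSingle_eq_of_ne hj]; exact one_mem _
  have hαinv : ∀ v ∈ Subgroup.pi Set.univ (fun _ : ι => U), α⁻¹ v = v := by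
    intro v hv
    rw [← hα v hv, MulAut.inv_apply_self, hα v hv]
  have key : ∀ (i : ι) (s : S), α (Pi.mulSingle i s) = Pi.mulSingle i (α (Pi.mulSingle i s) i) :=
    fun i s => apply_single α hu1 (hsing i u hu) s
  have hsing' : ∀ (i : ι) (v : S), v ∈ U → α⁻¹ (Pi.mulSingle i v) = Pi.mulSingle i v := by
    intro i v hv
    have h1 := hsing i v hv
    rw [← h1, MulAut.inv_apply_self, h1]
  have key' : ∀ (i : ι) (s : S), α⁻¹ (Pi.mulSingle i s) =
      Pi.mulSingle i (α⁻¹ (Pi.mulSingle i s) i) :=
    fun i s => apply_single α⁻¹ hu1 (hsing' i u hu) s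
  -- the automorphism of the `i`-th factor
  let β : ι → MulAut S := fun i =>
    { toFun := fun s => α (Pi.mulSingle i s) i
      invFun := fun s => α⁻¹ (Pi.mulSingle i s) i
      left_inv := by
        intro s
        show α⁻¹ (Pi.mulSingle i (α (Pi.mulSingle i s) i)) i = s
        rw [← key, MulAut.inv_apply_self, Pi.mulSingle_eq_same]
      right_inv := by
        intro s
        show α (Pi.mulSingle i (α⁻¹ (Pi.mulSingle i s) i)) i = s
        rw [← key', MulAut.apply_inv_self, Pi.mulSingle_eq_same]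
      map_mul' := by
        intro s t
        show α (Pi.mulSingle i (s * t)) i = _
        rw [Pi.mulSingle_mul, map_mul, Pi.mul_apply] }
  have hβ : ∀ i s, α (Pi.mulSingle i s) = Pi.mulSingle i (β i s) := key
  have hβj : ∀ (i : ι) (j : ℕ) (s : S), (α ^ j) (Pi.mulSingle i s) = Pi.mulSingle i ((β i ^ j) s) := by
    intro i j
    induction j with
    | zero => intro s; rw [pow_zero, pow_zero]; rfl
    | succ j ih =>
      intro s
      rw [pow_succ', pow_succ', MulAut.mul_apply, MulAut.mul_apply, ih, hβ]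
  have hβ1 : ∀ i, β i = 1 := by
    intro i
    refine h (β i) (fun v hv => ?_) k hk ?_
    · show α (Pi.mulSingle i v) i = v
      rw [hsing i v hv, Pi.mulSingle_eq_same]
    · ext s
      have h1 := hβj i k s
      rw [hαk, MulAut.one_apply] at h1
      have h2 := congrFun h1 i
      rw [Pi.mulSingle_eq_same, Pi.mulSingle_eq_same] at h2
      exact h2.symm
  have hfix : ∀ i s, α (Pi.mulSingle i s) = Pi.mulSingle i s := by
    intro i s
    rw [hβ, hβ1]
    rfl
  -- the centre of `S` is trivial
  have hcent : Subgroup.center S = ⊥ := by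
    rcases (inferInstance : (Subgroup.center S).Normal).eq_bot_or_eq_top with h1 | h1
    · exact h1
    · exfalso
      obtain ⟨a, b, hab⟩ := hc
      have h2 : a ∈ Subgroup.center S := by rw [h1]; trivial
      exact hab ((Subgroup.mem_center_iff.1 h2 b).symm)
  ext v i
  show (α v) i = v i
  have h1 : (α v i)⁻¹ * v i ∈ Subgroup.center S := by
    rw [Subgroup.mem_center_iff]
    intro s
    have h2 : v * Pi.mulSingle i s * v⁻¹ = Pi.mulSingle i (v i * s * (v i)⁻¹) := by
      funext j
      by_cases hj : j = i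
      · subst hj; simp
      · simp [Pi.mulSingle_eq_of_ne hj]
    have h3 : α v * Pi.mulSingle i s * (α v)⁻¹ = Pi.mulSingle i (α v i * s * (α v i)⁻¹) := by
      funext j
      by_cases hj : j = i
      · subst hj; simp
      · simp [Pi.mulSingle_eq_of_ne hj]
    have h4 := congrArg α h2
    rw [map_mul, map_mul, map_inv, hfix, hfix, h3] at h4
    have h5 := congrFun h4 i
    rw [Pi.mulSingle_eq_same, Pi.mulSingle_eq_same] at h5
    have h6 : s * ((α v i)⁻¹ * v i) = (α v i)⁻¹ * (α v i * s * (α v i)⁻¹) * v i := by group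
    rw [h6, h5]
    group
  rw [hcent, Subgroup.mem_bot] at h1
  exact inv_mul_eq_one.1 h1

end Cfsg.Agent.H684.ProdRigid
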