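import Cfsg.Agent.KFacts.RgdRigid
import Cfsg.Agent.KFacts.RgdSyl
import Cfsg.Agent.KFacts.RgdFilt

/-!
Groups with a filtered root group datum of rank `l` (helper684).

* `FiltR p l G` : `RgdFilt.HasFilt` with the rank;
* `eq_one_of_fix_U` : an automorphism of order prime to `p` centralizing `U` is trivial;
* `card_orbits_le` : at most `|W|` double cosets of `U` and `B`;
* `Good p D G` and `FiltR.good`.
-/

set_option autoImplicit false
set_option linter.unusedSectionVars false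

namespace Cfsg.Agent.H684.RgdData

open CoxeterSystem Cfsg.Agent.ChevalleyStructure.CoxeterGeom Cfsg.Agent.Tits.Roots Cfsg.Agent.Tits.Core
  Cfsg.Agent.Tits.Exchange Cfsg.Agent.Nodes.Reps Cfsg.Agent.Nodes.BNOf Cfsg.Agent.Nodes.StabComb
  Cfsg.Agent.Nodes.Bruhat Cfsg.Agent.Nodes.OppDec Cfsg.Agent.Nodes.LeviDec Cfsg.Agent.Nodes.NormalForm
  Cfsg.Agent.KFacts.RgdOpp Cfsg.Agent.KFacts.RgdAut Cfsg.Agent.KFacts.RgdDiag Cfsg.Agent.KFacts.RgdRigid
  Cfsg.Agent.KFacts.RgdSyl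

section

variable {I W Y : Type*} [Fintype I] [DecidableEq I] [Group W] [Group Y] {M : CoxeterMatrix I}
  {cs : CoxeterSystem M W} {A : I → I → ℤ} {h : IsCartan M A} {p : ℕ} {T : Subgroup Y} {n : I → Y}
  {X : (I → ℤ) → Subgroup Y}

variable (R : RGD cs h p T n X)

include R

/-- **Rigidity**: an automorphism of order prime to `p` centralizing `U` is trivial. -/
theorem eq_one_of_fix_U [Finite W] (hG1 : RGD.Sup X {x | IsRoot cs h x} = ⊤) {α : MulAut Y}
    (hα : ∀ u ∈ RGD.Sup X (RGD.Pos cs h), α u = u) {k : ℕ} (hk : p.Coprime k) (hαk : α ^ k = 1) :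
    α = 1 := by
  have hfix : Fix α (RGD.Sup X (RGD.Pos cs h)) := by
    intro x
    constructor
    · intro hx
      have h1 := hα _ hx
      have h2 : α x = x := α.injective h1
      rwa [h2] at hx
    · intro hx
      rw [hα x hx]; exact hx
  obtain ⟨u, hu, hU, hUN, hpow, -⟩ := exists_frame_pow R (GG_eq_top hG1) hfix
  have hβk := hpow k hαk
  obtain ⟨m, hm⟩ := R.isPGroup_Upos ⟨u, hu⟩
  have hm' : u ^ p ^ m = 1 := by simpa using congrArg Subtype.val hm
  set β : MulAut Y := MulAut.conj u * α with hβ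
  -- `β` is the conjugation by `u` on `U`
  have hβU : ∀ x ∈ RGD.Sup X (RGD.Pos cs h), ∀ j : ℕ, (β ^ j) x = (MulAut.conj u ^ j) x := by
    intro x hx j
    induction j with
    | zero => rw [pow_zero, pow_zero]
    | succ j ih =>
      have e1 : (β ^ (j + 1)) x = MulAut.conj u (α ((β ^ j) x)) := by
        rw [pow_succ', MulAut.mul_apply, hβ, MulAut.mul_apply]
      have e2 : (MulAut.conj u ^ (j + 1)) x = MulAut.conj u ((MulAut.conj u ^ j) x) := by
        rw [pow_succ', MulAut.mul_apply]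
      rw [e1, e2, ih]
      congr 1
      apply hα
      rw [← map_pow, MulAut.conj_apply]
      exact mul_mem (mul_mem (pow_mem hu j) hx) (inv_mem (pow_mem hu j))
  have hβ1 : ∀ x ∈ RGD.Sup X (RGD.Pos cs h), β x = x := by
    intro x hx
    have h1 : (β ^ p ^ m) x = x := by
      rw [hβU x hx, ← map_pow, hm', map_one, MulAut.one_apply]
    have h2 : (β ^ k) x = x := by rw [hβk, MulAut.one_apply]
    have hcop : (p ^ m).Coprime k := Nat.Coprime.pow_left m hk
    have h4 : β ∈ MulAction.stabilizer (MulAut Y) x := by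
      have h5 : β ^ p ^ m ∈ MulAction.stabilizer (MulAut Y) x := h1
      have h6 : β ^ k ∈ MulAction.stabilizer (MulAut Y) x := h2
      have h7 : β ^ ((1 : ℕ) : ℤ) ∈ MulAction.stabilizer (MulAut Y) x := by
        rw [← hcop.gcd_eq_one, Nat.gcd_eq_gcd_ab, zpow_add, zpow_mul, zpow_mul, zpow_natCast,
          zpow_natCast]
        exact mul_mem (Subgroup.zpow_mem _ h5 _) (Subgroup.zpow_mem _ h6 _)
      rwa [Nat.cast_one, zpow_one] at h7
    exact h4
  have hβ2 : β = 1 := by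
    refine eq_one_of_fix R hG1 hU hUN fun i x hx => hβ1 x ?_
    exact RGD.le_Sup (S := RGD.Pos cs h) ⟨isRoot_sr cs h i, sr_nonneg i⟩ hx
  -- `α` is inner
  have hα2 : α = MulAut.conj u⁻¹ := by
    have h1 : MulAut.conj u * α = 1 := hβ2
    rw [map_inv]
    exact eq_inv_of_mul_eq_one_right h1
  have h3 : orderOf α ∣ 1 := by
    rw [← (Nat.Coprime.pow_left m hk : (p ^ m).Coprime k).gcd_eq_one]
    refine Nat.dvd_gcd (orderOf_dvd_of_pow_eq_one ?_) (orderOf_dvd_of_pow_eq_one hαk)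
    rw [hα2, ← map_pow, inv_pow, hm', inv_one, map_one]
  exact orderOf_eq_one_iff.1 (Nat.dvd_one.1 h3)

/-- At most `|W|` double cosets. -/
theorem card_orbits_le [Finite W] [Finite Y] (hG1 : RGD.Sup X {x | IsRoot cs h x} = ⊤) :
    Nat.card (MulAction.orbitRel.Quotient (RGD.Sup X (RGD.Pos cs h)) (Y ⧸ RGD.B cs h T X)) ≤
      Nat.card W := by
  choose r hr using exists_rp cs R.nsys
  refine Nat.card_le_card_of_surjective
    (fun w : W => (Quotient.mk'' (QuotientGroup.mk (r w) : Y ⧸ RGD.B cs h T X) :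
      MulAction.orbitRel.Quotient (RGD.Sup X (RGD.Pos cs h)) (Y ⧸ RGD.B cs h T X))) ?_
  intro q
  induction q using Quotient.inductionOn' with
  | h x =>
  induction x using QuotientGroup.induction_on with
  | H g =>
  obtain ⟨w, hw⟩ := (mem_GG R (g := g)).1 (by rw [GG_eq_top hG1]; trivial)
  obtain ⟨b₁, hb₁, k, hk, b₂, hb₂, e⟩ := hw
  obtain ⟨u, hu, t, ht, e1⟩ : ∃ u ∈ RGD.Sup X (RGD.Pos cs h), ∃ t ∈ T, b₁ = u * t := by
    obtain ⟨t, ht, u, hu, e1⟩ := R.mem_B.1 (inv_mem hb₁)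
    refine ⟨u⁻¹, inv_mem hu, t⁻¹, inv_mem ht, ?_⟩
    rw [← mul_inv_rev, ← e1, inv_inv]
  refine ⟨w, ?_⟩
  rw [Quotient.eq'']
  show MulAction.orbitRel _ _ _ _
  rw [MulAction.orbitRel_apply]
  refine ⟨⟨u⁻¹, inv_mem hu⟩, ?_⟩
  show (u⁻¹ : Y) • (QuotientGroup.mk g : Y ⧸ RGD.B cs h T X) = QuotientGroup.mk (r w)
  rw [MulAction.Quotient.smul_mk, smul_eq_mul, QuotientGroup.eq]
  have h1 : (r w)⁻¹ * k ∈ T := (hr w).unique hk
  have h2 : k⁻¹ * t⁻¹ * k ∈ T := by
    have h3 := (Subgroup.mem_normalizer_iff.1 hk.inv.mem_normalizer t⁻¹).1 (inv_mem ht)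
    rwa [inv_inv] at h3
  have h3 : (u⁻¹ * g)⁻¹ * r w = b₂⁻¹ * (k⁻¹ * t⁻¹ * k) * ((r w)⁻¹ * k)⁻¹ := by
    rw [e, e1]; group
  rw [h3]
  exact mul_mem (mul_mem (inv_mem hb₂) (RGD.T_le_B h2)) (RGD.T_le_B (inv_mem h1))

end

end Cfsg.Agent.H684.RgdData
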