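import Cfsg.Agent.H684.FiltExc
import Cfsg.Agent.H684.RgdData
import Cfsg.Agent.H684.DefChar
import Cfsg.Agent.H684.AltEmb
import Cfsg.Agent.KFacts.RgdLieCharP

/-!
The groups of Lie type (helper684).

* `good_of_filtD` : `Good p D S`;
* `exists_good` : the groups of Lie type of characteristic `p` with a filtered root group datum;
* `exists_cross` : the groups of Lie type of characteristic `≠ p`.
-/

set_option autoImplicit false
set_option linter.unusedSectionVars false

namespace Cfsg.Agent.H684.LieGood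

open CoxeterSystem Cfsg.Agent.ChevalleyStructure.CoxeterGeom Cfsg.Agent.Tits.Roots
  Cfsg.Agent.Nodes.Reps Cfsg.Agent.Nodes.BNOf
open Cfsg Cfsg.Agent.H684.FiltClass Cfsg.Agent.H684.DefChar Cfsg.Agent.H684.LinGrp
  Cfsg.Agent.H684.AltEmb Cfsg.Agent.H684.ProdRigid

theorem Good.mono {p D D' : ℕ} {S : Type*} [Group S] (h : Good p D S) (hD : D ≤ D') : Good p D' S := by
  obtain ⟨U, B, h1, h2, h3, h4, h5, h6, h7⟩ := h
  refine ⟨U, B, h1, h2, h3, h4, h5.trans hD, h6, ?_⟩
  rcases h7 with h7 | h7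
  · exact Or.inl h7
  · exact Or.inr (h7.trans (Nat.pow_le_pow_right (Nat.succ_pos _) hD))

theorem good_of_filtD {p l : ℕ} [Fact p.Prime] {M : CoxeterMatrix (Fin l)} {S : Type*} [Group S]
    [Finite S] [IsSimpleGroup S] (hc : ∃ a b : S, a * b ≠ b * a) (hS : FiltD p M S) :
    Good p (Nat.card M.Group) S := by
  have hF := hS.hasFilt
  obtain ⟨A, h, T, n, X, R, F, hW, hX, -⟩ := hS
  have hX' : RGD.Sup X {x | IsRoot M.toCoxeterSystem h x} = ⊤ := hX
  refine ⟨RGD.Sup X (RGD.Pos M.toCoxeterSystem h), RGD.B M.toCoxeterSystem h T X, RGD.U_le_B,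
    R.B_le_normalizer_U, R.isPGroup_Upos, ?_, RgdData.card_orbits_le R hX', ?_, Or.inl ?_⟩
  · have h1 := KFacts.RgdSyl.not_dvd_relIndex R
    rwa [KFacts.RgdRigid.GG_eq_top hX', Subgroup.relIndex_top_right] at h1
  · intro α hα k hk hαk
    exact RgdData.eq_one_of_fix_U R hX' hα hk hαk
  · intro K hK hK1
    exact hF.local_char hc hK hK1

/-- a bound of the orders of the Weyl groups -/
noncomputable def bndW (L : ℕ) : ℕ :=
  (∑ i ∈ Finset.range (L + 1), (Nat.card (Cfsg.Agent.LieRecognition.BNCox.cA i).Group +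
    Nat.card (CoxeterMatrix.B i).Group + Nat.card (Nodes.TypeD.M i).Group)) +
    (Nat.card CoxeterMatrix.G₂.Group + Nat.card CoxeterMatrix.F₄.Group +
      Nat.card CoxeterMatrix.E₆.Group + Nat.card CoxeterMatrix.E₇.Group +
      Nat.card CoxeterMatrix.E₈.Group)

theorem term_le {L i : ℕ} (hi : i ≤ L) : Nat.card (Cfsg.Agent.LieRecognition.BNCox.cA i).Group +
    Nat.card (CoxeterMatrix.B i).Group + Nat.card (Nodes.TypeD.M i).Group ≤ bndW L := by
  refine le_trans ?_ (Nat.le_add_right _ _)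
  exact Finset.single_le_sum (f := fun i => Nat.card (Cfsg.Agent.LieRecognition.BNCox.cA i).Group +
    Nat.card (CoxeterMatrix.B i).Group + Nat.card (Nodes.TypeD.M i).Group)
    (fun _ _ => Nat.zero_le _) (Finset.mem_range.2 (Nat.lt_succ_of_le hi))

theorem cA_le {L i : ℕ} (hi : i ≤ L) :
    Nat.card (Cfsg.Agent.LieRecognition.BNCox.cA i).Group ≤ bndW L := by
  have := term_le hi; omega

theorem B_le {L i : ℕ} (hi : i ≤ L) : Nat.card (CoxeterMatrix.B i).Group ≤ bndW L := by
  have := term_le hi; omega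

theorem D_le {L i : ℕ} (hi : i ≤ L) : Nat.card (Nodes.TypeD.M i).Group ≤ bndW L := by
  have := term_le hi; omega

theorem lt_of_altIn {p k m n : ℕ} [Fact p.Prime] {S : Type*} [Group S] (he : ExpLt p k S)
    (h : 5 ≤ m → AltIn m S) (hn : n ≤ m + 1) : n ≤ 2 * p ^ k + 5 := by
  by_cases h5 : 5 ≤ m
  · have := (h h5).lt he
    omega
  · omega

theorem altIn_equiv {m : ℕ} {S T : Type*} [Group S] [Group T] (e : S ≃* T) (h : AltIn m T) :
    AltIn m S := h.of_injective e.symm.toMonoidHom e.symm.injective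

/-- **Defining characteristic.** -/
theorem exists_good (p k : ℕ) [Fact p.Prime] : ∃ D : ℕ, ∀ (S : Type*) [Group S] [Finite S]
    [IsSimpleGroup S] (_ : ∃ a b : S, a * b ≠ b * a) (_ : ExpLt p k S)
    (_ : KFacts.RgdLieCharP.IsLieFilt p S), Good p D S := by
  refine ⟨bndW (2 * p ^ k + 5), ?_⟩
  intro S _ _ _ hc he hS
  rcases hS with h | h | h | h | h | h | h | h
  · obtain ⟨F, _, _, _, n, hn, -, ⟨e⟩⟩ := h
    obtain ⟨n, rfl⟩ : ∃ k, n = k + 1 := ⟨n - 1, by omega⟩
    have : Finite (Matrix.ProjectiveSpecialLinearGroup (Fin (n + 1)) F) := Quotient.finite _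
    have hn' := lt_of_altIn (n := n) (m := n + 1) he (fun h5 => altIn_equiv e (altIn_psl h5)) (by omega)
    exact Good.mono (good_of_filtD hc ((filtD_PSL n).of_equiv e.symm)) (cA_le hn')
  · obtain ⟨F, _, _, _, m, hm, -, ⟨e⟩⟩ := h
    have : Finite (PSp m F) := Quotient.finite _
    have hn' := lt_of_altIn (n := m) (m := m) he (fun h5 => altIn_equiv e (altIn_psp h5)) (by omega)
    exact Good.mono (good_of_filtD hc ((filtD_PSp (by omega)).of_equiv e.symm)) (B_le hn')
  · obtain ⟨F, _, _, _, n, q, hF, hn, -, ⟨e⟩⟩ := h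
    have : Finite (PSU n F q) := Quotient.finite _
    have hn' := lt_of_altIn (n := n) (m := n) he (fun h5 => altIn_equiv e (altIn_psu q h5)) (by omega)
    obtain ⟨m, hm, h1⟩ := filtD_PSU hF hn (p := p)
    exact Good.mono (good_of_filtD hc (h1.of_equiv e.symm)) (B_le (hm.trans hn'))
  · obtain ⟨F, _, _, _, m, hm, hodd, ⟨e⟩⟩ := h
    have h2 : (2 : F) ≠ 0 := by
      intro h2
      have h3 : CharP F 2 := CharTwo.of_one_ne_zero_of_two_eq_zero one_ne_zero h2
      obtain ⟨k, -, hk⟩ := FiniteField.card F 2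
      rw [hk] at hodd
      exact absurd hodd (by
        rw [Nat.not_odd_iff_even]
        exact (even_two).pow_of_ne_zero k.ne_zero)
    have : Finite (Cfsg.POmega F (Cfsg.quadFormOdd m F)) := Quotient.finite _
    have hn' := lt_of_altIn (n := m) (m := m) he (fun h5 => altIn_equiv e (altIn_odd h5)) (by omega)
    exact Good.mono (good_of_filtD hc ((filtD_PO_odd h2 (by omega)).of_equiv e.symm)) (B_le hn')
  · obtain ⟨F, _, _, _, m, hm, ⟨e⟩⟩ := h
    obtain ⟨n, rfl⟩ : ∃ n, m = n + 3 := ⟨m - 3, by omega⟩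
    have : Finite (Cfsg.POmega F (Cfsg.quadFormPlus (n + 3) F)) := Quotient.finite _
    have hn' := lt_of_altIn (n := n + 1) (m := n + 3) he (fun h5 => altIn_equiv e (altIn_plus h5))
      (by omega)
    exact Good.mono (good_of_filtD hc ((filtD_PO_plus n).of_equiv e.symm)) (D_le hn')
  · obtain ⟨F, _, _, _, m, a, b, hm, hab, ⟨e⟩⟩ := h
    have : Finite (Cfsg.POmega F (Cfsg.quadFormMinus (m - 1) F a b)) := Quotient.finite _
    have hn' := lt_of_altIn (n := m - 1) (m := m - 1) he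
      (fun h5 => altIn_equiv e (altIn_minus a b h5)) (by omega)
    exact Good.mono (good_of_filtD hc ((filtD_PO_minus a b hab (by omega)).of_equiv e.symm)) (B_le hn')
  · obtain ⟨F, _, _, _, ⟨-, ⟨e⟩⟩ | ⟨⟨e⟩⟩ | ⟨⟨e⟩⟩ | ⟨⟨e⟩⟩ | ⟨⟨e⟩⟩⟩ := h
    · exact Good.mono (good_of_filtD hc ((FiltExc.filtD_G2 F p).of_equiv e.symm))
        (by unfold bndW; omega)
    · exact Good.mono (good_of_filtD hc ((FiltExc.filtD_F4 F p).of_equiv e.symm))
        (by unfold bndW; omega)
    · exact Good.mono (good_of_filtD hc ((FiltExc.filtD_E6 F p).of_equiv e.symm))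
        (by unfold bndW; omega)
    · exact Good.mono (good_of_filtD hc ((FiltExc.filtD_E7 F p).of_equiv e.symm))
        (by unfold bndW; omega)
    · exact Good.mono (good_of_filtD hc ((FiltExc.filtD_E8 F p).of_equiv e.symm))
        (by unfold bndW; omega)
  · obtain ⟨K, _, _, _, q, hq, ⟨hK, ⟨e⟩⟩ | ⟨hK, ⟨e⟩⟩⟩ := h
    · exact Good.mono (good_of_filtD hc ((FiltExc.filtD_twE6 hq hK p).of_equiv e.symm))
        (by unfold bndW; omega)
    · exact Good.mono (good_of_filtD hc ((FiltExc.filtD_D4 hq hK p).of_equiv e.symm))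
        (by unfold bndW; omega)

end Cfsg.Agent.H684.LieGood
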