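import Cfsg.Agent.H684.RankOne
import Cfsg.Agent.LieRecognition.SzMatrix
import Cfsg.Agent.LieRecognition.ReeSylowThree
import Cfsg.Agent.ChevalleyStructure.Ree.Data

/-!
The Suzuki groups and the small Ree groups (helper684).
-/

set_option autoImplicit false

namespace Cfsg.Agent.H684.SzRee

open Cfsg.Agent.H684.ProdRigid Cfsg.Agent.H684.DefChar Cfsg.Agent.H684.GoodMap Cfsg.Agent.H684.RankOne

theorem mem_normalizer_of {G : Type*} [Group G] {U B : Subgroup G}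
    (h : ∀ b ∈ B, ∀ u ∈ U, b * u * b⁻¹ ∈ U) : B ≤ Subgroup.normalizer (U : Set G) := by
  intro b hb
  rw [Subgroup.mem_normalizer_iff]
  intro u
  refine ⟨h b hb u, fun hu => ?_⟩
  have h1 := h b⁻¹ (inv_mem hb) _ hu
  have e : b⁻¹ * (b * u * b⁻¹) * b⁻¹⁻¹ = u := by group
  rwa [e] at h1

theorem relIndex_eq {G : Type*} [Group G] [Finite G] {U B : Subgroup G} (h : U ≤ B) {n : ℕ}
    (hn : Nat.card B = Nat.card U * n) : U.relIndex B = n := by
  have h1 := Subgroup.card_mul_index (U.subgroupOf B)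
  have h2 : Nat.card (U.subgroupOf B) = Nat.card U :=
    Nat.card_congr (Subgroup.subgroupOfEquivOfLe h).toEquiv
  rw [h2, hn] at h1
  exact Nat.eq_of_mul_eq_mul_left Nat.card_pos h1

section Sz

open Cfsg.Agent.LieRecognition.SzMatrix

variable {F : Type*} [Field F] [Fintype F] {m : ℕ}

theorem ro_sz (hF : Fintype.card F = 2 ^ (2 * m + 1)) :
    RO 2 (good hF).unip (good hF).borel (good hF).w := by
  set H := good hF with hH
  refine ⟨H.unip_le_borel, mem_normalizer_of H.borel_normalizes, ?_, ?_, ?_, H.inter_trivial⟩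
  · refine IsPGroup.of_card (n := (2 * m + 1) * 2) ?_
    rw [H.card_unip, Nat.card_eq_fintype_card, hF, ← pow_mul]
  · intro h1
    have h2 : H.u 1 0 ∈ H.unip := H.u_mem_unip 1 0
    rw [h1, Subgroup.mem_bot, ← H.u_zero] at h2
    exact one_ne_zero (H.u_inj h2).1
  · intro g hg
    obtain ⟨s, hs, h1⟩ := H.bruhat_sz g hg
    exact ⟨s, hs, _, h1, by group⟩

theorem goodB_sz (hF : Fintype.card F = 2 ^ (2 * m + 1))
    [IsSimpleGroup ↥(Cfsg.Lie.Sz F (2 ^ (m + 1)))] : GoodB 2 16 ↥(Cfsg.Lie.Sz F (2 ^ (m + 1))) := by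
  have hfact : Fact (Nat.Prime 2) := ⟨Nat.prime_two⟩
  have H := ro_sz (m := m) hF
  have h1 : (good hF).unip.relIndex (good hF).borel = Nat.card F - 1 :=
    relIndex_eq H.le (by rw [(good hF).card_borel, (good hF).card_unip])
  have hq : 0 < Nat.card F := Nat.card_pos
  refine H.good' (by norm_num) ?_ ?_
  · rw [h1, Nat.card_eq_fintype_card, hF, pow_succ]
    have : 0 < 2 ^ (2 * m) := by positivity
    omega
  · rw [h1, Nat.sub_add_cancel hq]
    exact card_le_pow _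

end Sz

section Ree

open Cfsg.Agent.LieRecognition.ReeAbs Cfsg.Agent.LieRecognition.ReeSylowThree

variable {K : Type*} [Field K] {m : ℕ} {G : Type*} [Group G] {U : K → K → K → G} {h : Kˣ → G} {n : G}

/-- The Borel subgroup. -/
def bSub (D : Data m U h n) : Subgroup G where
  carrier := {g | ∃ u ∈ uSub D, ∃ a, g = u * h a}
  mul_mem' := by
    rintro _ _ ⟨u, hu, a, rfl⟩ ⟨v, hv, b, rfl⟩
    refine ⟨u * (h a * v * (h a)⁻¹), mul_mem hu (h_conj_mem D a hv), a * b, ?_⟩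
    rw [D.h_mul]
    group
  one_mem' := ⟨1, one_mem _, 1, by rw [D.h_one, mul_one]⟩
  inv_mem' := by
    rintro _ ⟨u, hu, a, rfl⟩
    refine ⟨h a⁻¹ * u⁻¹ * (h a⁻¹)⁻¹, h_conj_mem D _ (inv_mem hu), a⁻¹, ?_⟩
    rw [D.h_inv]
    group

theorem uSub_le (D : Data m U h n) : uSub D ≤ bSub D := fun u hu => ⟨u, hu, 1, by rw [D.h_one, mul_one]⟩

theorem h_mem_bSub (D : Data m U h n) (a : Kˣ) : h a ∈ bSub D := ⟨1, one_mem _, a, (one_mul _).symm⟩

theorem card_bSub [Fintype K] (D : Data m U h n) :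
    Nat.card (bSub D) = Fintype.card K ^ 3 * (Fintype.card K - 1) := by
  let f : (K × K × K) × Kˣ → bSub D := fun x => ⟨U x.1.1 x.1.2.1 x.1.2.2 * h x.2, _, ⟨_, _, _, rfl⟩, _, rfl⟩
  have hf : Function.Bijective f := by
    constructor
    · rintro ⟨⟨t, u, v⟩, a⟩ ⟨⟨t', u', v'⟩, a'⟩ he
      obtain ⟨rfl, rfl, rfl, rfl⟩ := D.inj₁ _ _ _ _ _ _ _ _ (congrArg Subtype.val he)
      rfl
    · rintro ⟨_, _, ⟨t, u, v, rfl⟩, a, rfl⟩
      exact ⟨((t, u, v), a), rfl⟩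
  rw [← Nat.card_congr (Equiv.ofBijective f hf), Nat.card_prod, Nat.card_prod, Nat.card_prod, Nat.card_units,
    Nat.card_eq_fintype_card]
  ring

theorem ro_ree [Fintype K] (hK : Fintype.card K = 3 ^ (2 * m + 1)) (D : Data m U h n) :
    RO 3 (uSub D) (bSub D) n := by
  refine ⟨uSub_le D, mem_normalizer_of ?_, ?_, ?_, ?_, ?_⟩
  · rintro _ ⟨u, hu, a, rfl⟩ x hx
    have e : u * h a * x * (u * h a)⁻¹ = u * (h a * x * (h a)⁻¹) * u⁻¹ := by group
    rw [e]
    exact mul_mem (mul_mem hu (h_conj_mem D a hx)) (inv_mem hu)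
  · apply IsPGroup.of_card (n := (2 * m + 1) * 3)
    rw [card_uSub, hK, ← pow_mul]
  · intro h1
    have h2 : U 1 0 0 ∈ uSub D := ⟨1, 0, 0, rfl⟩
    rw [h1, Subgroup.mem_bot, ← D.U_zero] at h2
    exact one_ne_zero (U_injective D h2).1
  · intro g hg
    rcases D.bruhat g with ⟨t, u, v, a, rfl⟩ | ⟨t, u, v, a, t', u', v', rfl⟩
    · exact absurd ⟨_, ⟨t, u, v, rfl⟩, a, rfl⟩ hg
    · refine ⟨U t u v, ⟨t, u, v, rfl⟩, h a⁻¹ * U t' u' v',
        mul_mem (h_mem_bSub D _) (uSub_le D ⟨t', u', v', rfl⟩), ?_⟩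
      rw [mul_assoc (U t u v), D.n_h']
      simp only [mul_assoc]
  · rintro _ ⟨t, x, v, rfl⟩ hu
    obtain ⟨w, ⟨t', x', v', rfl⟩, a, e⟩ := hu
    rw [D.n_inv] at e
    have e2 : U 0 0 0 * h 1 * n * U t x v = U t' x' v' * h a * n * U 0 0 0 := by
      rw [D.U_zero, D.h_one, one_mul, one_mul, mul_one, ← e]
      rw [mul_assoc _ n n, D.n_n, mul_one]
    obtain ⟨-, -, -, -, rfl, rfl, rfl⟩ := D.inj₂ _ _ _ _ _ _ _ _ _ _ _ _ _ _ e2
    exact D.U_zero

theorem goodB_ree {K : Type*} [Field K] [Fintype K] {m : ℕ} (hK : Fintype.card K = 3 ^ (2 * m + 1))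
    [IsSimpleGroup ↥(Cfsg.Lie.twistedG2 K (3 ^ m))] :
    GoodB 3 (Fintype.card Cfsg.Lie.chevG2.Idx * Fintype.card Cfsg.Lie.chevG2.Idx + 2)
      ↥(Cfsg.Lie.twistedG2 K (3 ^ m)) := by
  obtain ⟨U, h, n, D⟩ := Cfsg.Agent.ChevalleyStructure.Ree.Data.exists_data hK
  have hfact : Fact (Nat.Prime 3) := ⟨Nat.prime_three⟩
  have H := ro_ree hK D
  have h1 : (uSub D).relIndex (bSub D) = Nat.card K - 1 :=
    relIndex_eq H.le (by rw [card_bSub, card_uSub, Nat.card_eq_fintype_card])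
  have hq : 0 < Nat.card K := Nat.card_pos
  refine H.good' (by omega) ?_ ?_
  · rw [h1, Nat.card_eq_fintype_card, hK, pow_succ]
    have : 0 < 3 ^ (2 * m) := by positivity
    omega
  · rw [h1, Nat.sub_add_cancel hq]
    exact (card_le_pow _).trans (Nat.pow_le_pow_right hq (by omega))

end Ree

end Cfsg.Agent.H684.SzRee
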