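import Cfsg.Agent.H684.DefChar

/-!
Transport of `Good` along isomorphisms (helper684).
-/

set_option autoImplicit false

namespace Cfsg.Agent.H684.GoodMap

open Cfsg.Agent.H684.ProdRigid Cfsg.Agent.H684.DefChar

/-- the second alternative of `Good` -/
def GoodB (p D : ℕ) (S : Type*) [Group S] : Prop :=
  ∃ U B : Subgroup S, U ≤ B ∧ B ≤ Subgroup.normalizer (U : Set S) ∧ IsPGroup p U ∧ ¬ p ∣ U.index ∧
    Nat.card (MulAction.orbitRel.Quotient U (S ⧸ B)) ≤ D ∧ Rigid p U ∧
      Nat.card S ≤ (U.relIndex B + 1) ^ D

theorem GoodB.good {p D : ℕ} {S : Type*} [Group S] (h : GoodB p D S) : Good p D S := by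
  obtain ⟨U, B, h1, h2, h3, h4, h5, h6, h7⟩ := h
  exact ⟨U, B, h1, h2, h3, h4, h5, h6, Or.inr h7⟩

theorem GoodB.of_equiv {p D : ℕ} {S S' : Type*} [Group S] [Group S'] [Finite S'] (h : GoodB p D S')
    (e : S ≃* S') : GoodB p D S := by
  obtain ⟨U, B, h1, h2, h3, h4, h5, h6, h7⟩ := h
  have hfS : Finite S := Finite.of_equiv S' e.symm.toEquiv
  refine ⟨U.comap e.toMonoidHom, B.comap e.toMonoidHom, Subgroup.comap_mono h1, ?_,
    h3.comap_of_injective _ e.injective, ?_, ?_, ?_, ?_⟩
  · intro x hx
    have hx' := Subgroup.mem_normalizer_iff.1 (h2 (show e x ∈ B from hx))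
    rw [Subgroup.mem_normalizer_iff]
    intro y
    have h8 := hx' (e y)
    rw [← map_inv, ← map_mul, ← map_mul] at h8
    exact h8
  · rw [Subgroup.index_comap_of_surjective _ e.surjective]
    exact h4
  · refine le_trans ?_ h5
    -- the map on cosets
    let f : S' ⧸ B → S ⧸ B.comap e.toMonoidHom :=
      Quotient.map' (fun g => e.symm g) (by
        intro a b hab
        rw [QuotientGroup.leftRel_apply] at hab ⊢
        show e ((e.symm a)⁻¹ * e.symm b) ∈ B
        rw [map_mul, map_inv, e.apply_symm_apply, e.apply_symm_apply]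
        exact hab)
    have hf : ∀ g : S', f (QuotientGroup.mk g) = QuotientGroup.mk (e.symm g) := fun g => rfl
    let F : MulAction.orbitRel.Quotient U (S' ⧸ B) →
        MulAction.orbitRel.Quotient (U.comap e.toMonoidHom) (S ⧸ B.comap e.toMonoidHom) :=
      Quotient.map' f (by
        intro a b hab
        obtain ⟨u, hu⟩ := hab
        refine ⟨⟨e.symm u, ?_⟩, ?_⟩
        · show e (e.symm u) ∈ U
          rw [e.apply_symm_apply]
          exact u.2
        · obtain ⟨g, rfl⟩ := QuotientGroup.mk_surjective b
          rw [← hu]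
          show (QuotientGroup.mk (e.symm u * e.symm g) : S ⧸ B.comap e.toMonoidHom) =
            QuotientGroup.mk (e.symm (u * g))
          rw [map_mul])
    have hF : Function.Surjective F := by
      intro x
      induction x using Quotient.inductionOn' with
      | h x =>
        obtain ⟨g, rfl⟩ := QuotientGroup.mk_surjective x
        refine ⟨Quotient.mk'' (QuotientGroup.mk (e g)), ?_⟩
        show Quotient.mk'' (f (QuotientGroup.mk (e g))) = _
        rw [hf, e.symm_apply_apply]
    exact Nat.card_le_card_of_surjective F hF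
  · have h8 := h6.map e.symm
    have h9 : U.map e.symm.toMonoidHom = U.comap e.toMonoidHom := by
      ext x
      constructor
      · rintro ⟨u, hu, rfl⟩
        show e (e.symm u) ∈ U
        rw [e.apply_symm_apply]; exact hu
      · intro hx
        exact ⟨e x, hx, e.symm_apply_apply x⟩
    rwa [h9] at h8
  · have h8 : (U.comap e.toMonoidHom).relIndex (B.comap e.toMonoidHom) = U.relIndex B := by
      rw [Subgroup.relIndex_comap, Subgroup.map_comap_eq_self_of_surjective e.surjective]
    rw [h8, Nat.card_congr e.toEquiv]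
    exact h7

end Cfsg.Agent.H684.GoodMap
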