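import Mathlib
import Cfsg.Agent.Lib.NormalAbelian

/-!
`p`-subgroups of bounded exponent of finite dimensional algebras (helper684).

* `card_comm_le` : `A` of exponent `m`, `m ≠ 0` in `K`, in a commutative algebra of dimension `d`:
  `|A| ≤ m ^ d`;
* `card_le` : a `p`-group of exponent dividing `p ^ e` in an algebra of dimension `d` over an
  algebraically closed field of characteristic `≠ p` has bounded order.
-/

set_option autoImplicit false
set_option linter.deprecated false
set_option linter.unusedSectionVars false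

open Module

namespace Cfsg.Agent.H684.LinBound

variable {K : Type*} [Field K] [IsAlgClosed K]

/-- an element of finite order which is unipotent is trivial -/
theorem eq_one_of_nilpotent {B : Type*} [CommRing B] [Algebra K B] {c : B} {m : ℕ}
    (hm : (m : K) ≠ 0) (hc : c ^ m = 1) (hn : IsNilpotent (c - 1)) : c = 1 := by
  have h1 : c - 1 ∈ nilradical B := hn
  have h2 : (∑ i ∈ Finset.range m, c ^ i) - (m : B) ∈ nilradical B := by
    have h3 : (∑ i ∈ Finset.range m, c ^ i) - (m : B) = ∑ i ∈ Finset.range m, (c ^ i - 1) := by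
      rw [Finset.sum_sub_distrib]
      simp
    rw [h3]
    refine Ideal.sum_mem _ fun i _ => ?_
    obtain ⟨d, hd⟩ := sub_dvd_pow_sub_pow c 1 i
    rw [one_pow] at hd
    rw [hd]
    exact Ideal.mul_mem_right _ _ h1
  have h3 : IsUnit (∑ i ∈ Finset.range m, c ^ i) := by
    have h4 : IsUnit (algebraMap K B (m : K)) := (IsUnit.mk0 _ hm).map _
    rw [map_natCast] at h4
    have h5 : (∑ i ∈ Finset.range m, c ^ i) =
        (m : B) + ((∑ i ∈ Finset.range m, c ^ i) - (m : B)) := by ring
    rw [h5]
    exact IsNilpotent.isUnit_add_left_of_commute h2 h4 (Commute.all _ _)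
  have h4 : (∑ i ∈ Finset.range m, c ^ i) * (c - 1) = 0 := by
    rw [geom_sum_mul, hc, sub_self]
  exact sub_eq_zero.1 ((h3.mul_right_eq_zero).1 h4)

/-- **Abelian groups in commutative algebras.** -/
theorem card_comm_le {B : Type*} [CommRing B] [Algebra K B] [FiniteDimensional K B] {A : Type*}
    [Group A] (f : A →* B) (hf : Function.Injective f) {m : ℕ} (hm : (m : K) ≠ 0)
    (hA : ∀ a : A, a ^ m = 1) : Nat.card A ≤ m ^ finrank K B := by
  have hm0 : m ≠ 0 := by
    rintro rfl
    exact hm Nat.cast_zero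
  have : NeZero m := ⟨hm0⟩
  have hfa : ∀ (φ : B →ₐ[K] K) (a : A), (φ (f a)) ^ m = 1 := by
    intro φ a
    rw [← map_pow, ← map_pow, hA, map_one, map_one]
  let Φ : A → ((B →ₐ[K] K) → rootsOfUnity m K) := fun a φ =>
    rootsOfUnity.mkOfPowEq (φ (f a)) (hfa φ a)
  have hΦ : Function.Injective Φ := by
    intro a b hab
    have h1 : ∀ φ : B →ₐ[K] K, φ (f a) = φ (f b) := by
      intro φ
      have h2 := congrFun hab φ
      have h3 := congrArg (fun x : rootsOfUnity m K => ((x : Kˣ) : K)) h2
      simpa [Φ] using h3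
    have h2 : ∀ φ : B →ₐ[K] K, φ (f (a * b⁻¹) - 1) = 0 := by
      intro φ
      rw [map_sub, map_mul, map_mul, h1, ← map_mul, ← map_mul, mul_inv_cancel, map_one, map_one,
        sub_self]
    have h3 : IsNilpotent (f (a * b⁻¹) - 1) := by
      rw [← mem_nilradical, nilradical_eq_sInf, Ideal.mem_sInf]
      intro P hP
      have hP' : P.IsPrime := hP
      have hbij : Function.Bijective (algebraMap K (B ⧸ P)) :=
        IsAlgClosed.algebraMap_bijective_of_isIntegral
      let e : K ≃ₐ[K] (B ⧸ P) := AlgEquiv.ofBijective (Algebra.ofId K (B ⧸ P)) hbij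
      have h4 := h2 (e.symm.toAlgHom.comp (Ideal.Quotient.mkₐ K P))
      have h5 : (Ideal.Quotient.mkₐ K P) (f (a * b⁻¹) - 1) = 0 := by
        have h6 : e.symm ((Ideal.Quotient.mkₐ K P) (f (a * b⁻¹) - 1)) = 0 := h4
        exact (map_eq_zero_iff e.symm e.symm.injective).1 h6
      exact Ideal.Quotient.eq_zero_iff_mem.1 h5
    have h4 : f (a * b⁻¹) = 1 := by
      refine eq_one_of_nilpotent hm ?_ h3
      rw [← map_pow, hA, map_one]
    have h5 : a * b⁻¹ = 1 := hf (h4.trans (map_one f).symm)
    exact mul_inv_eq_one.1 h5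
  have h1 := Nat.card_le_card_of_injective Φ hΦ
  rw [Nat.card_fun] at h1
  have h2 : Nat.card (rootsOfUnity m K) ≤ m := card_rootsOfUnity K m
  have h3 : Nat.card (B →ₐ[K] K) ≤ finrank K B := card_algHom_le_finrank K B K
  exact h1.trans ((Nat.pow_le_pow_left h2 _).trans (Nat.pow_le_pow_right (Nat.pos_of_ne_zero hm0) h3))

/-- **`p`-groups of bounded exponent.** -/
theorem card_le {E : Type*} [Ring E] [Algebra K E] [FiniteDimensional K E] {P : Type*} [Group P]
    [Finite P] (f : P →* E) (hf : Function.Injective f) {p e d : ℕ} [Fact p.Prime]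
    (hp : (p : K) ≠ 0) (hP : ∀ x : P, x ^ p ^ e = 1) (hd : finrank K E ≤ d) :
    Nat.card P ≤ (p ^ e) ^ d * ((p ^ e) ^ d).factorial := by
  have hpP : IsPGroup p P := fun x => ⟨e, hP x⟩
  have : Group.IsNilpotent P := hpP.isNilpotent
  obtain ⟨A, hAn, hAc, hAC⟩ := Lib.NormalAbelian.exists_normal_abelian_selfCentralizing (G := P)
  -- `A` is small
  have hcomm : ∀ a ∈ f '' (A : Set P), ∀ b ∈ f '' (A : Set P), a * b = b * a := by
    rintro _ ⟨a, ha, rfl⟩ _ ⟨b, hb, rfl⟩
    rw [← map_mul, ← map_mul]
    congr 1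
    have h1 : b ∈ Subgroup.centralizer (A : Set P) := by rw [hAC]; exact hb
    exact Subgroup.mem_centralizer_iff.1 h1 a ha
  let S : Subalgebra K E := Algebra.adjoin K (f '' (A : Set P))
  let _ : CommRing S := Algebra.adjoinCommRingOfComm K hcomm
  let g : A →* S :=
    { toFun := fun a => ⟨f a, Algebra.subset_adjoin ⟨a, a.2, rfl⟩⟩
      map_one' := Subtype.ext (map_one f)
      map_mul' := fun a b => Subtype.ext (map_mul f (a : P) (b : P)) }
  have hg : Function.Injective g := by
    intro a b hab
    exact Subtype.ext (hf (congrArg Subtype.val hab))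
  have hS : finrank K S ≤ d := (Submodule.finrank_le (Subalgebra.toSubmodule S)).trans hd
  have h1 : Nat.card A ≤ (p ^ e) ^ finrank K S := by
    refine card_comm_le g hg (m := p ^ e) ?_ ?_
    · push_cast
      exact pow_ne_zero e hp
    · intro a
      exact Subtype.ext (hP a)
  have hp0 : 0 < p ^ e := pow_pos (Fact.out : p.Prime).pos e
  have h2 : Nat.card A ≤ (p ^ e) ^ d := h1.trans (Nat.pow_le_pow_right hp0 hS)
  -- `P / A` embeds in the automorphisms of `A`
  let c : P →* MulAut A := MulAut.conjNormal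
  have hA' : ∀ x : P, x ∈ A ↔ ∀ a ∈ A, a * x = x * a := by
    intro x
    constructor
    · intro hx a ha
      have h3 : x ∈ Subgroup.centralizer (A : Set P) := by rw [hAC]; exact hx
      exact Subgroup.mem_centralizer_iff.1 h3 a ha
    · intro hx
      have h3 : x ∈ Subgroup.centralizer (A : Set P) := Subgroup.mem_centralizer_iff.2 hx
      rwa [hAC] at h3
  have hker : c.ker = A := by
    ext x
    rw [MonoidHom.mem_ker, hA']
    constructor
    · intro h3 a ha
      have h4 := congrArg (fun y : MulAut A => ((y ⟨a, ha⟩ : A) : P)) h3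
      simp only [c, MulAut.conjNormal_apply, MulAut.one_apply] at h4
      exact (mul_inv_eq_iff_eq_mul.1 h4).symm
    · intro h3
      ext a
      simp only [c, MulAut.conjNormal_apply, MulAut.one_apply]
      rw [mul_inv_eq_iff_eq_mul]
      exact (h3 a a.2).symm
  have h3 : Nat.card P = Nat.card A * Nat.card (P ⧸ c.ker) := by
    rw [← Subgroup.card_mul_index A, Subgroup.index, hker]
  have h4 : Nat.card (P ⧸ c.ker) ≤ (Nat.card A).factorial := by
    rw [Nat.card_congr (QuotientGroup.quotientKerEquivRange c).toEquiv]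
    have h5 : Nat.card c.range ≤ Nat.card (MulAut A) :=
      Nat.card_le_card_of_injective _ (Subtype.val_injective)
    have h6 : Nat.card (MulAut A) ≤ Nat.card (Equiv.Perm A) :=
      Nat.card_le_card_of_injective (fun x : MulAut A => x.toEquiv) MulEquiv.toEquiv_injective
    rw [Nat.card_perm] at h6
    exact h5.trans h6
  rw [h3]
  exact Nat.mul_le_mul h2 (h4.trans (Nat.factorial_le h2))

end Cfsg.Agent.H684.LinBound
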