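import Cfsg.Agent.H684.SimpleCase
import Cfsg.Agent.H684.Steps
import Cfsg.Agent.Lib.MinNormal

/-!
The order of a Sylow `p`-subgroup is bounded by the number of characters of the principal block (helper684).
-/

set_option autoImplicit false

open Cfsg

universe u

namespace Cfsg.Agent.H684.MainBound

open Cfsg.Agent.H684.LinGrp Cfsg.Agent.H684.DefChar Cfsg.Agent.H684.SimpleCase
  Cfsg.Agent.H684.BlockTools

/-- the classification -/
def CFSG : Prop := ∀ (T : Type u) [Group T] [Finite T] [IsSimpleGroup T], IsKnownSimple' T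

/-- **A minimal normal subgroup.** -/
theorem minNormal_bound (hcfsg : CFSG.{u}) (p k : ℕ) [Fact p.Prime] : ∃ N : ℕ, ∀ (G : Type u) [Group G] [Finite G]
    (M : Ideal AlgInt) (_ : IsPModular p M) (V : Subgroup G) [V.Normal] (_ : V ≠ ⊥)
    (_ : ∀ K : Subgroup G, K.Normal → K ≤ V → K = ⊥ ∨ K = V) (_ : p ∣ Nat.card V)
    (_ : Nat.card (principalBlock M G) ≤ k), (Nat.card V).factorization p ≤ N := by
  have hp : p.Prime := Fact.out
  obtain ⟨N1, hN1⟩ := Steps.card_abelian_le.{u} k
  obtain ⟨D, N2, hN2⟩ := simple_cases.{u} p k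
  obtain ⟨N3, hN3⟩ := DefChar.card_le.{u, u} k D k
  refine ⟨N1 + N3 + k * N2, ?_⟩
  intro G _ _ M hM V _ hV hmin hpV hk
  obtain ⟨T, m, hTV, hTs, hm, ⟨e⟩⟩ := Cfsg.Agent.Lib.MinNormal.exists_mulEquiv_pi V hV hmin
  have hcardV : Nat.card V = Nat.card T ^ m := by
    rw [Nat.card_congr e.toEquiv, Nat.card_pi]
    simp
  have hpT : p ∣ Nat.card T := by
    rw [hcardV] at hpV
    exact hp.dvd_of_dvd_pow hpV
  have hfV : (Nat.card V).factorization p ≤ Nat.card V := factorization_le_card p
  by_cases hc : ∃ a b : T, a * b ≠ b * a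
  · have hrank := Steps.rank_lt hM V (center_eq_bot hc) e hpT
    have hmk : m ≤ k := hrank.le.trans hk
    have he : ExpLt p k T := by
      refine ExpLt.of_injective (T := G) ?_ T.subtype T.subtype_injective
      intro x i hx
      exact lt_of_lt_of_le (Steps.exponent_lt hM hx) hk
    rcases hN2 T hc he (hcfsg T) with h | h
    · have h1 := hN3 G p M hM V T hc m hmk e h hpT hk
      omega
    · rw [hcardV, Nat.factorization_pow, Finsupp.smul_apply, smul_eq_mul]
      have h2 : m * (Nat.card T).factorization p ≤ k * N2 := Nat.mul_le_mul hmk h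
      omega
  · push Not at hc
    have hT : p = Nat.card T := by
      let _ : CommGroup T := { mul_comm := hc }
      have h1 : (Nat.card T).Prime := IsSimpleGroup.prime_card
      exact (Nat.prime_dvd_prime_iff_eq hp h1).1 hpT
    have hVp : IsPGroup p V := IsPGroup.of_card (n := m) (by rw [hcardV, ← hT])
    have hVc : V ≤ Subgroup.centralizer (V : Set G) := by
      intro x hx
      rw [Subgroup.mem_centralizer_iff]
      intro y hy
      have h1 : (⟨y, hy⟩ : V) * ⟨x, hx⟩ = ⟨x, hx⟩ * ⟨y, hy⟩ := by
        apply e.injective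
        rw [map_mul, map_mul]
        funext i
        exact hc _ _
      exact congrArg Subtype.val h1
    have h1 := hN1 G p M hM V hVp hVc hk
    omega

theorem exists_minNormal {G : Type*} [Group G] [Finite G] [Nontrivial G] :
    ∃ V : Subgroup G, V.Normal ∧ V ≠ ⊥ ∧ ∀ K : Subgroup G, K.Normal → K ≤ V → K = ⊥ ∨ K = V := by
  classical
  obtain ⟨V, ⟨hV, hV1⟩, hmin⟩ := exists_minimal_of_wellFoundedLT
    (fun K : Subgroup G => K.Normal ∧ K ≠ ⊥) ⟨⊤, inferInstance, top_ne_bot⟩
  refine ⟨V, hV, hV1, fun K hK hKV => ?_⟩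
  by_cases h : K = ⊥
  · exact Or.inl h
  · exact Or.inr (le_antisymm hKV (hmin ⟨hK, h⟩ hKV))

/-- **The main theorem.** -/
theorem main (hcfsg : CFSG.{u}) (p : ℕ) [Fact p.Prime] (k : ℕ) : ∃ N : ℕ, ∀ (G : Type u) [Group G] [Finite G]
    (M : Ideal AlgInt), IsPModular p M → Nat.card (principalBlock M G) ≤ k →
      (Nat.card G).factorization p ≤ N := by
  have hp : p.Prime := Fact.out
  induction k with
  | zero =>
    refine ⟨0, ?_⟩
    intro G _ _ M hM hk
    have := card_pos (G := G) hM
    omega
  | succ k ih =>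
    obtain ⟨N, hN⟩ := ih
    obtain ⟨N', hN'⟩ := minNormal_bound hcfsg p (k + 1)
    refine ⟨N + N', ?_⟩
    intro G _ _ M hM hk
    -- induction on the order
    suffices h : ∀ (n : ℕ) (G : Type u) [Group G] [Finite G], Nat.card G = n →
        Nat.card (principalBlock M G) ≤ k + 1 → (Nat.card G).factorization p ≤ N + N' from
      h _ G rfl hk
    intro n
    induction n using Nat.strong_induction_on with
    | _ n ihn =>
      intro G _ _ hn hk
      rcases subsingleton_or_nontrivial G with hs | hs
      · have h1 : Nat.card G = 1 := Nat.card_eq_one_iff_unique.2 ⟨hs, ⟨1⟩⟩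
        rw [h1]; simp
      · obtain ⟨V, hV, hV1, hmin⟩ := exists_minNormal (G := G)
        have hcard : Nat.card G = Nat.card (G ⧸ V) * Nat.card V := Subgroup.card_eq_card_quotient_mul_card_subgroup V
        have hfac : (Nat.card G).factorization p =
            (Nat.card (G ⧸ V)).factorization p + (Nat.card V).factorization p := by
          rw [hcard, Nat.factorization_mul Nat.card_pos.ne' Nat.card_pos.ne', Finsupp.add_apply]
        have hVgt : 1 < Nat.card V := by
          rw [Nat.lt_iff_add_one_le]
          have h1 : Nat.card V ≠ 1 := fun h => hV1 (Subgroup.card_eq_one.1 h)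
          have h2 : 0 < Nat.card V := Nat.card_pos
          omega
        have hlt : Nat.card (G ⧸ V) < n := by
          rw [← hn, hcard]
          have h2 : 0 < Nat.card (G ⧸ V) := Nat.card_pos
          nlinarith
        by_cases hpV : p ∣ Nat.card V
        · obtain ⟨x, hx⟩ := exists_prime_orderOf_dvd_card' p hpV
          have h1 := Steps.card_lt hM (QuotientGroup.mk' V) (QuotientGroup.mk'_surjective V)
            (x := (x : G)) ⟨1, by rw [pow_one, Subgroup.orderOf_coe, hx]⟩ (by
              intro h
              have h2 : x = 1 := Subtype.ext h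
              rw [h2, orderOf_one] at hx
              exact hp.one_lt.ne hx) ((QuotientGroup.eq_one_iff _).2 x.2)
          have h3 := hN (G ⧸ V) M hM (by omega)
          have h4 := hN' G M hM V hV1 hmin hpV hk
          omega
        · have h1 := card_le_of_surjective hM (QuotientGroup.mk' V) (QuotientGroup.mk'_surjective V)
          have h2 := ihn _ hlt (G ⧸ V) rfl (h1.trans hk)
          rw [hfac, Nat.factorization_eq_zero_of_not_dvd hpV, add_zero]
          exact h2

end Cfsg.Agent.H684.MainBound
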