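import Cfsg.Agent.H684.RankOne
import Cfsg.Agent.KFacts.TwF4.AutNorm

/-!
The groups `²F₄(q)`, `q ≥ 8` (helper684).
-/

set_option autoImplicit false

namespace Cfsg.Agent.H684.TwFour

open Cfsg.Agent.H684.ProdRigid Cfsg.Agent.H684.DefChar Cfsg.Agent.H684.GoodMap Cfsg.Agent.H684.RankOne
open Cfsg.Agent.SplitTwo Cfsg.Agent.SplitTwo.ZS Cfsg.Agent.TitsThree.RankTwoZ Cfsg.Agent.KFacts.TwF4.Arc
open Cfsg.Agent.KFacts.TwF4.Inv Cfsg.Agent.KFacts.TwF4.SylU Cfsg.Agent.KFacts.TwF4.AutNorm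
open Cfsg.Agent.KFacts.TwF4

universe u

variable {F : Type*} [Field F] {σ : F →+* F} {G : Type u} [Group G] (S : Full σ G)

/-- the Borel subgroup -/
def Bo : Subgroup G where
  carrier := {g | ∃ u ∈ J S.XZ 1 8, ∃ t ∈ S.T, g = u * t}
  mul_mem' := by
    rintro _ _ ⟨u, hu, t, ht, rfl⟩ ⟨v, hv, s, hs, rfl⟩
    refine ⟨u * (t * v * t⁻¹), mul_mem hu (S.T_conj_J ht hv), t * s, mul_mem ht hs, ?_⟩
    group
  one_mem' := ⟨1, one_mem _, 1, one_mem _, (one_mul 1).symm⟩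
  inv_mem' := by
    rintro _ ⟨u, hu, t, ht, rfl⟩
    refine ⟨t⁻¹ * u⁻¹ * t⁻¹⁻¹, S.T_conj_J (inv_mem ht) (inv_mem hu), t⁻¹, inv_mem ht, ?_⟩
    group

theorem U_le : J S.XZ 1 8 ≤ Bo S := fun u hu => ⟨u, hu, 1, one_mem _, (mul_one u).symm⟩

theorem T_le : S.T ≤ Bo S := fun t ht => ⟨1, one_mem _, t, ht, (one_mul t).symm⟩

theorem conj_U {b : G} (hb : b ∈ Bo S) {x : G} (hx : x ∈ J S.XZ 1 8) : b * x * b⁻¹ ∈ J S.XZ 1 8 := by
  obtain ⟨u, hu, t, ht, rfl⟩ := hb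
  have e : u * t * x * (u * t)⁻¹ = u * (t * x * t⁻¹) * u⁻¹ := by group
  rw [e]
  exact mul_mem (mul_mem hu (S.T_conj_J ht hx)) (inv_mem hu)

theorem Bo_le : Bo S ≤ Subgroup.normalizer (J S.XZ 1 8 : Set G) := by
  intro b hb
  rw [Subgroup.mem_normalizer_iff]
  intro u
  refine ⟨conj_U S hb, fun hu => ?_⟩
  have h1 := conj_U S (inv_mem hb) hu
  have e : b⁻¹ * (b * u * b⁻¹) * b⁻¹⁻¹ = u := by group
  rwa [e] at h1

/-- elements acting in the same way on the root groups -/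
theorem inv_mul_mem {w w' : G} {f : ZMod (2 * 8) → ZMod (2 * 8)} (h : Maps S.R.X w f)
    (h' : Maps S.R.X w' f) : w⁻¹ * w' ∈ S.T := by
  intro k x
  show w⁻¹ * w' * x * (w⁻¹ * w')⁻¹ ∈ S.R.X k ↔ _
  have e : w' * x * w'⁻¹ = w * (w⁻¹ * w' * x * (w⁻¹ * w')⁻¹) * w⁻¹ := by group
  rw [← h' k x, e, h]

theorem exists_rep (x : MulAction.orbitRel.Quotient (J S.XZ 1 8) (G ⧸ Bo S)) :
    ∃ w, S.IsDih w ∧ x = Quotient.mk'' (QuotientGroup.mk w) := by
  induction x using Quotient.inductionOn' with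
  | h x =>
    obtain ⟨g, rfl⟩ := QuotientGroup.mk_surjective x
    obtain ⟨b, hb, t, ht, w, hw, b', hb', rfl⟩ := S.bruhat g
    refine ⟨t * w, ?_, ?_⟩
    · obtain ⟨c, h | h⟩ := hw
      · exact ⟨c, Or.inl ((Maps.mul (show Maps S.R.X t id from ht) h).congr fun _ => rfl)⟩
      · exact ⟨c, Or.inr ((Maps.mul (show Maps S.R.X t id from ht) h).congr fun _ => rfl)⟩
    · rw [Quotient.eq'']
      refine ⟨⟨b, hb⟩, ?_⟩
      show (QuotientGroup.mk (b * (t * w)) : G ⧸ Bo S) = _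
      rw [QuotientGroup.eq]
      have e : (b * (t * w))⁻¹ * (b * t * w * b') = b' := by group
      rw [e]
      exact U_le S hb'

theorem card_orbits_le : Nat.card (MulAction.orbitRel.Quotient (J S.XZ 1 8) (G ⧸ Bo S)) ≤ 32 := by
  classical
  choose w hw hx using exists_rep S
  have hc : ∀ x, ∃ p : ZMod (2 * 8) × Bool, Maps S.R.X (w x) (fun k => if p.2 then p.1 + k else p.1 - k) := by
    intro x
    obtain ⟨c, h | h⟩ := hw x
    · exact ⟨(c, true), h⟩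
    · exact ⟨(c, false), h⟩
  choose p hp using hc
  have hinj : Function.Injective p := by
    intro x y hxy
    have h1 := hp y
    rw [← hxy] at h1
    have h2 := inv_mul_mem S (hp x) h1
    rw [hx x, hx y]
    congr 1
    rw [QuotientGroup.eq]
    exact T_le S h2
  calc Nat.card (MulAction.orbitRel.Quotient (J S.XZ 1 8) (G ⧸ Bo S)) ≤ Nat.card (ZMod (2 * 8) × Bool) :=
        Nat.card_le_card_of_injective p hinj
    _ = 32 := by
      rw [Nat.card_prod, Nat.card_zmod]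
      simp

variable [Finite F] [Finite G]

include S in
theorem isP (hR : S.R.p = 2) : IsPGroup 2 (J S.XZ 1 8) :=
  isPGroup_J S.zsys8 (two_X S hR) 8 1 8 (by norm_num) (by norm_num)

theorem rigid (hF : ∃ c : Fˣ, c ≠ 1) (hR : S.R.p = 2) : Rigid 2 (J S.XZ 1 8) := by
  intro α hα n hn hαn
  have hZU : ∀ z ∈ S.Zc 2, z ∈ J S.XZ 1 8 := fun z hz =>
    mem_J (S.Zc_le 2 hz) (by norm_num) (by norm_num)
  obtain ⟨k, hk, hαk⟩ := inner_of_Z4 S hF hR (α := α) (fun z hz => hα z (hZU z hz))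
  have hkZ : k ∈ S.Zc 2 := by
    rw [← S.centralizer_Q, Subgroup.mem_centralizer_iff]
    intro x hx
    have hxU : x ∈ J S.XZ 1 8 := J_mono le_rfl (by norm_num) hx
    have h1 := hαk x
    rw [hα x hxU] at h1
    calc x * k = (k * x * k⁻¹) * k := by rw [← h1]
      _ = k * x := by group
  obtain ⟨a, ha⟩ := isP S hR ⟨k, hZU k hkZ⟩
  have ha' : k ^ 2 ^ a = 1 := congrArg Subtype.val ha
  have h1 : α = MulAut.conj k := by
    ext x; exact hαk x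
  have h2 : α ^ 2 ^ a = 1 := by
    rw [h1, ← map_pow, ha', map_one]
  have h3 : orderOf α ∣ Nat.gcd (2 ^ a) n :=
    Nat.dvd_gcd (orderOf_dvd_of_pow_eq_one h2) (orderOf_dvd_of_pow_eq_one hαn)
  rw [(Nat.Coprime.pow_left a hn).gcd_eq_one, Nat.dvd_one] at h3
  exact orderOf_eq_one_iff.1 h3

theorem T_inf_U (hR : S.R.p = 2) {t : G} (ht : t ∈ S.T) (hU : t ∈ J S.XZ 1 8) : t = 1 := by
  obtain ⟨c, d, rfl⟩ := S.mem_T.1 ht
  obtain ⟨a, ha⟩ := isP S hR ⟨_, hU⟩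
  have ha' : S.h c d ^ 2 ^ a = 1 := congrArg Subtype.val ha
  obtain ⟨rfl, rfl⟩ := torus_two S ha'
  exact S.h_one

theorem card_le_relIndex (hR : S.R.p = 2) : Nat.card F ≤ (J S.XZ 1 8).relIndex (Bo S) + 1 := by
  let f : Fˣ → Bo S ⧸ (J S.XZ 1 8).subgroupOf (Bo S) := fun c =>
    QuotientGroup.mk ⟨S.h c 1, T_le S (S.mem_T.2 ⟨c, 1, rfl⟩)⟩
  have hf : Function.Injective f := by
    intro c d h
    have h1 := QuotientGroup.eq.1 h
    rw [Subgroup.mem_subgroupOf] at h1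
    have h2 : (S.h c 1)⁻¹ * S.h d 1 ∈ J S.XZ 1 8 := h1
    have h3 : (S.h c 1)⁻¹ * S.h d 1 ∈ S.T :=
      mul_mem (inv_mem (S.mem_T.2 ⟨c, 1, rfl⟩)) (S.mem_T.2 ⟨d, 1, rfl⟩)
    have h4 := T_inf_U S hR h3 h2
    exact (S.h_inj _ _ _ _ (inv_mul_eq_one.1 h4)).1
  have h1 := Nat.card_le_card_of_injective f hf
  rw [Nat.card_units] at h1
  have h2 : Nat.card (Bo S ⧸ (J S.XZ 1 8).subgroupOf (Bo S)) = (J S.XZ 1 8).relIndex (Bo S) := rfl
  rw [h2] at h1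
  omega

theorem goodB (hF : ∃ c : Fˣ, c ≠ 1) (hR : S.R.p = 2) {D : ℕ} (hD : 32 ≤ D)
    (hc : Nat.card G ≤ Nat.card F ^ D) : GoodB 2 D G := by
  have hfact : Fact (Nat.Prime 2) := ⟨Nat.prime_two⟩
  refine ⟨J S.XZ 1 8, Bo S, U_le S, Bo_le S, isP S hR, ?_, (card_orbits_le S).trans hD, rigid S hF hR,
    hc.trans (Nat.pow_le_pow_left (card_le_relIndex S hR) D)⟩
  obtain ⟨P, hP⟩ := exists_sylow S hF hR
  rw [← hP]
  exact P.not_dvd_index

theorem goodB_twF4 {K : Type} [Field K] [Fintype K] {m : ℕ} (hm : 1 ≤ m)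
    (hK : Fintype.card K = 2 ^ (2 * m + 1)) :
    GoodB 2 (Fintype.card Cfsg.Lie.chevF4.Idx * Fintype.card Cfsg.Lie.chevF4.Idx + 32)
      ↥(Cfsg.Lie.twistedF4 K (2 ^ m)) := by
  obtain ⟨φ, hφ⟩ := Cfsg.Agent.ChevalleyStructure.TwF4.TwistedFix.exists_rln hK
  have := Cfsg.Agent.ChevalleyStructure.TwF4.Twisted.charP_two hK
  have hfin : Finite ↥(Cfsg.Lie.twistedF4 K (2 ^ m)) := inferInstance
  have hF : ∃ c : Kˣ, c ≠ 1 := by
    have h1 : 1 < Nat.card Kˣ := by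
      rw [Nat.card_units, Nat.card_eq_fintype_card, hK]
      have : 2 ^ 3 ≤ 2 ^ (2 * m + 1) := Nat.pow_le_pow_right (by norm_num) (by omega)
      omega
    have h2 : Nontrivial Kˣ := Finite.one_lt_card_iff_nontrivial.1 h1
    exact exists_ne 1
  refine goodB (Cfsg.Agent.KFacts.TwF4.Inst.full hK hφ) hF rfl (by omega) ?_
  exact (card_le_pow _).trans (Nat.pow_le_pow_right Nat.card_pos (by omega))

end Cfsg.Agent.H684.TwFour
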